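import Groth.Agent.Perfn.Etale
import Mathlib.RingTheory.Spectrum.Prime.Homeomorph

/-!
# Affineness descends along perfection
-/

set_option autoImplicit false
set_option linter.style.haveILetI false
set_option backward.isDefEq.respectTransparency false
universe u

namespace Groth.Agent.Perfn

open AlgebraicGeometry CategoryTheory CategoryTheory.Limits FrobSch TopologicalSpace Opposite

variable {p : ℕ} [hp : Fact p.Prime] {XP X : Scheme.{u}} [IsCharP XP p] [IsCharP X p] {π : XP ⟶ X}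

theorem isNilpotent_of_app_eq_zero (hπ : IsPerfection π p) {W : X.Opens}
    (hW : IsCompact (W : Set X)) {a : Γ(X, W)} (h : π.app W a = 0) : IsNilpotent a := by
  obtain ⟨-, -, _⟩ := props hπ
  rw [(X.isNilpotent_iff_basicOpen_eq_bot_of_isCompact hW) a]
  ext x
  simp only [Opens.coe_bot, Set.mem_empty_iff_false, iff_false]
  intro hx
  obtain ⟨x', rfl⟩ := π.surjective x
  have h1 : x' ∈ π ⁻¹ᵁ X.basicOpen a := hx
  rw [Scheme.preimage_basicOpen, h, Scheme.basicOpen_zero] at h1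
  exact h1

theorem exists_pow_eq_app (hπ : IsPerfection π p) {W : X.Opens} (hW : IsAffineOpen W)
    (s : Γ(XP, π ⁻¹ᵁ W)) : ∃ n a, π.app W a = s ^ p ^ n := by
  haveI : IsCharP (Spec Γ(X, W)) p := IsCharP.of_hom hW.fromSpec p
  obtain ⟨B, _, ψ, i, hB, hr, -, hpb⟩ := exists_chart hπ (A := Γ(X, W)) hW.fromSpec
  haveI : IsOpenImmersion i :=
    MorphismProperty.of_isPullback (P := @IsOpenImmersion) hpb.flip inferInstance
  have hrange : i.opensRange = π ⁻¹ᵁ W := by
    have h1 : i = hpb.isoPullback.hom ≫ pullback.fst π hW.fromSpec := hpb.isoPullback_hom_fst.symm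
    ext1
    show Set.range i = π ⁻¹' W
    rw [h1, Scheme.Hom.comp_base, TopCat.coe_comp, Set.range_comp,
      Set.range_eq_univ.mpr hpb.isoPullback.hom.surjective, Set.image_univ,
      Scheme.Pullback.range_fst, hW.range_fromSpec]
  have htop : (⊤ : (Spec (CommRingCat.of B)).Opens) = i ⁻¹ᵁ (π ⁻¹ᵁ W) := by
    rw [← hrange, Scheme.Hom.preimage_opensRange]
  let e := i.appLE (π ⁻¹ᵁ W) ⊤ htop.le ≫ (Scheme.ΓSpecIso (CommRingCat.of B)).hom
  have he : Function.Injective e := by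
    haveI : IsIso (i.app (π ⁻¹ᵁ W)) := i.isIso_app _ hrange.ge
    haveI : IsIso (homOfLE htop.le) := ⟨homOfLE htop.ge, Subsingleton.elim _ _, Subsingleton.elim _ _⟩
    haveI : IsIso e := by
      simp only [e, Scheme.Hom.appLE]
      infer_instance
    exact (ConcreteCategory.bijective_of_isIso e).1
  have hψ : π.app W ≫ e = CommRingCat.ofHom ψ := by
    have h1 : π.app W ≫ i.appLE (π ⁻¹ᵁ W) ⊤ htop.le = (i ≫ π).appLE W ⊤ htop.le :=
      (Scheme.Hom.comp_appLE i π W ⊤ htop.le).symm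
    have hcongr : ∀ (g : Spec (CommRingCat.of B) ⟶ X) (hg : g = i ≫ π) (e' : ⊤ ≤ g ⁻¹ᵁ W),
        (i ≫ π).appLE W ⊤ htop.le = g.appLE W ⊤ e' := by
      rintro g rfl e'
      rfl
    have hfs : hW.fromSpec.appLE W ⊤ (by rw [hW.fromSpec_preimage_self]) =
        (Scheme.ΓSpecIso Γ(X, W)).inv := by
      rw [Scheme.Hom.appLE, hW.fromSpec_app_self, Category.assoc, ← Functor.map_comp]
      refine (congrArg _ ((congrArg _ ?_).trans ((Spec Γ(X, W)).presheaf.map_id _))).trans
        (Category.comp_id _)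
      exact Subsingleton.elim _ _
    have h2 : (i ≫ π).appLE W ⊤ htop.le = (Scheme.ΓSpecIso Γ(X, W)).inv ≫
        (Spec.map (CommRingCat.ofHom ψ)).appTop := by
      rw [hcongr (Spec.map (CommRingCat.ofHom ψ) ≫ hW.fromSpec) hpb.w.symm
        (fun x _ => by rw [Scheme.Hom.comp_preimage, hW.fromSpec_preimage_self]; trivial), ← hfs]
      rw [Scheme.Hom.appTop, Scheme.Hom.app_eq_appLE]
      exact (Scheme.Hom.appLE_comp_appLE _ _ _ _ _ _ _).symm
    show π.app W ≫ i.appLE (π ⁻¹ᵁ W) ⊤ htop.le ≫ _ = _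
    rw [← Category.assoc, h1, h2, Category.assoc, Scheme.ΓSpecIso_naturality]
    exact Iso.inv_hom_id_assoc (Scheme.ΓSpecIso Γ(X, W)) _
  obtain ⟨n, a, ha⟩ := hr (e s)
  refine ⟨n, a, he ?_⟩
  rw [map_pow, ha]
  exact congr($(hψ).hom a)

/-- A quasi-compact quasi-separated scheme with affine perfection is affine. -/
theorem isAffine_of_perfection (hπ : IsPerfection π p) [CompactSpace X] [QuasiSeparatedSpace X]
    [IsAffine XP] : IsAffine X := by
  classical
  obtain ⟨-, -, _⟩ := props hπ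
  have hrange : ∀ s : Γ(XP, π ⁻¹ᵁ ⊤), ∃ n a, π.app ⊤ a = s ^ p ^ n := by
    intro s
    obtain ⟨t, htf, htc⟩ := (isCompact_and_isOpen_iff_finite_and_eq_biUnion_affineOpens
      (X := X) (U := Set.univ)).mp ⟨isCompact_univ, isOpen_univ⟩
    have := htf.fintype
    choose n a ha using fun W : t => exists_pow_eq_app hπ W.1.2
      (XP.presheaf.map (homOfLE (π.preimage_mono le_top)).op s)
    let N := ∑ W, n W
    let a' : ∀ W : t, Γ(X, W.1.1) := fun W => a W ^ p ^ (N - n W)
    have ha' : ∀ W, π.app W.1.1 (a' W) =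
        XP.presheaf.map (homOfLE (π.preimage_mono le_top)).op s ^ p ^ N := fun W => by
      simp only [a', map_pow, ha, ← pow_mul, ← pow_add]
      rw [Nat.add_sub_cancel' (Finset.single_le_sum (fun j _ => Nat.zero_le (n j)) (Finset.mem_univ W))]
    have hnil : ∀ W W' : t, IsNilpotent
        (X.presheaf.map (homOfLE (inf_le_left : W.1.1 ⊓ W'.1.1 ≤ W.1.1)).op (a' W) -
          X.presheaf.map (homOfLE (inf_le_right : W.1.1 ⊓ W'.1.1 ≤ W'.1.1)).op (a' W')) := by
      intro W W'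
      refine isNilpotent_of_app_eq_zero hπ (QuasiSeparatedSpace.inter_isCompact _ _ W.1.1.2
        W.1.2.isCompact W'.1.1.2 W'.1.2.isCompact) ?_
      have hh : ∀ {V V' : X.Opens} (i : V' ≤ V) (x : Γ(X, V)), π.app V' (X.presheaf.map (homOfLE i).op x) =
          XP.presheaf.map (homOfLE (π.preimage_mono i)).op (π.app V x) := fun i x =>
        congr($(π.naturality (homOfLE i).op).hom x)
      rw [map_sub, hh, hh, ha', ha', map_pow, map_pow, ← CommRingCat.comp_apply,
        ← CommRingCat.comp_apply, ← Functor.map_comp, ← Functor.map_comp]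
      exact sub_eq_zero.mpr rfl
    choose m hm using hnil
    let M := ∑ W, ∑ W', m W W'
    have hcompat : TopCat.Presheaf.IsCompatible X.sheaf.obj (fun W : t => W.1.1)
        (fun W => a' W ^ p ^ M) := by
      intro W W'
      rw [← sub_eq_zero]
      simp only [map_pow]
      rw [← sub_pow_pow (natCast_eq_zero_app X p _)]
      refine pow_eq_zero_of_le ?_ (hm W W')
      refine le_trans ?_ (Nat.lt_pow_self hp.out.one_lt).le
      exact (Finset.single_le_sum (fun j _ => Nat.zero_le (m W j)) (Finset.mem_univ W')).trans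
        (Finset.single_le_sum (f := fun W => ∑ W', m W W') (fun j _ => Nat.zero_le _) (Finset.mem_univ W))
    have hcov : (⊤ : X.Opens) ≤ ⨆ W : t, W.1.1 := by
      intro x _
      have hx : x ∈ ⋃ W ∈ t, ((W : X.Opens) : Set X) := htc ▸ Set.mem_univ x
      obtain ⟨W, hW, hxW⟩ := Set.mem_iUnion₂.mp hx
      exact Opens.mem_iSup.mpr ⟨⟨W, hW⟩, hxW⟩
    obtain ⟨A, hA, -⟩ := X.sheaf.existsUnique_gluing' (fun W : t => W.1.1) ⊤
      (fun W => homOfLE le_top) hcov _ hcompat
    refine ⟨N + M, A, XP.sheaf.eq_of_locally_eq' (fun W : t => π ⁻¹ᵁ W.1.1) _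
      (fun W => homOfLE (π.preimage_mono le_top)) (fun x hx => ?_) _ _ fun W => ?_⟩
    · obtain ⟨W, hW⟩ := Opens.mem_iSup.mp (hcov (show π x ∈ (⊤ : X.Opens) from trivial))
      exact Opens.mem_iSup.mpr ⟨W, hW⟩
    · show XP.presheaf.map _ (π.app ⊤ A) = XP.presheaf.map _ (s ^ p ^ (N + M))
      refine (congr($(π.naturality (homOfLE (le_top : W.1.1 ≤ ⊤)).op).hom A)).symm.trans ?_
      show π.app W.1.1 (X.presheaf.map (homOfLE le_top).op A) = _
      rw [show X.presheaf.map (homOfLE le_top).op A = a' W ^ p ^ M from hA W, map_pow, ha',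
        map_pow, ← pow_mul, ← pow_add]
  refine isAffine_of_isAffineOpen_basicOpen {a : Γ(X, ⊤) | IsAffineOpen (X.basicOpen a)} ?_ fun _ h => h
  by_contra hne
  obtain ⟨M, hM, hle⟩ := Ideal.exists_le_maximal _ hne
  have hsurj : Function.Surjective (PrimeSpectrum.comap (π.app ⊤).hom) := by
    refine (PrimeSpectrum.isHomeomorph_comap (π.app ⊤).hom (fun s => ?_) fun a ha => ?_).bijective.2
    · obtain ⟨n, a, h⟩ := hrange s
      exact ⟨p ^ n, pow_pos hp.out.pos n, a, h⟩
    · exact isNilpotent_of_app_eq_zero hπ isCompact_univ ha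
  obtain ⟨P, hP⟩ := hsurj ⟨M, hM.isPrime⟩
  have hcov : (⊤ : XP.Opens) ≤ ⨆ f : {a : Γ(X, ⊤) | IsAffineOpen (X.basicOpen a)},
      XP.basicOpen (π.app ⊤ f.1) := by
    intro y' _
    obtain ⟨W, hW, hyW, -⟩ := exists_isAffineOpen_mem_and_subset (X := X) (x := π y') (U := ⊤) trivial
    obtain ⟨s, hs, hys⟩ := (isAffineOpen_top XP).exists_basicOpen_le (V := π ⁻¹ᵁ W)
      ⟨y', hyW⟩ trivial
    obtain ⟨n, a, ha⟩ := hrange s
    have hD : π ⁻¹ᵁ X.basicOpen a = XP.basicOpen s := by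
      rw [Scheme.preimage_basicOpen, ha]
      exact XP.basicOpen_pow _ (pow_pos hp.out.pos n)
    have hle' : X.basicOpen a ≤ W := fun x hx => by
      obtain ⟨x', rfl⟩ := π.surjective x
      exact hs (hD ▸ (show x' ∈ π ⁻¹ᵁ X.basicOpen a from hx) : x' ∈ XP.basicOpen s)
    have haff : IsAffineOpen (X.basicOpen a) := by
      have := hW.basicOpen (X.presheaf.map (homOfLE (le_top : W ≤ ⊤)).op a)
      rwa [Scheme.basicOpen_res, inf_eq_right.mpr hle'] at this
    refine Opens.mem_iSup.mpr ⟨⟨a, haff⟩, ?_⟩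
    rw [← Scheme.preimage_basicOpen, hD]
    exact hys
  have hspan : Ideal.span ((π.app ⊤).hom '' {a : Γ(X, ⊤) | IsAffineOpen (X.basicOpen a)}) = ⊤ := by
    refine ((isAffineOpen_top XP).iSup_basicOpen_eq_self_iff).mp ?_
    refine le_antisymm (iSup_le fun f => le_top) (hcov.trans (iSup_le fun f => ?_))
    exact le_iSup_of_le ⟨_, f.1, f.2, rfl⟩ le_rfl
  refine P.isPrime.ne_top (top_le_iff.mp (hspan ▸ Ideal.span_le.mpr ?_))
  rintro _ ⟨a, ha, rfl⟩
  have : a ∈ (PrimeSpectrum.comap (π.app ⊤).hom P).asIdeal := by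
    rw [hP]
    exact hle (Ideal.subset_span ha)
  exact this

variable {YP Y : Scheme.{u}} [IsCharP Y p] [IsCharP YP p] {πY : YP ⟶ Y}

theorem isAffineHom_iff (hX : IsPerfection π p) (hY : IsPerfection πY p)
    (f : X ⟶ Y) (fP : XP ⟶ YP) (w : fP ≫ πY = π ≫ f) : IsAffineHom f ↔ IsAffineHom fP := by
  obtain ⟨_, -, _⟩ := props hX
  obtain ⟨_, -, -⟩ := props hY
  constructor
  · intro _
    haveI : IsAffineHom (fP ≫ πY) := w ▸ inferInstance
    exact MorphismProperty.of_postcomp (W := @IsAffineHom) (W' := @IsSeparated) fP πY inferInstance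
      inferInstance
  · intro _
    haveI : IsAffineHom (π ≫ f) := w ▸ inferInstance
    haveI : QuasiSeparated f := (quasiSeparated_iff hX hY f fP w).mpr inferInstance
    haveI : QuasiCompact f := (quasiCompact_iff hX hY f fP w).mpr inferInstance
    refine ⟨fun V hV => ?_⟩
    haveI : IsAffine V.toScheme := hV
    haveI : IsCharP (f ⁻¹ᵁ V).toScheme p := IsCharP.of_hom (f ⁻¹ᵁ V).ι p
    haveI : IsCharP (pullback π (f ⁻¹ᵁ V).ι) p := IsCharP.of_hom (pullback.fst π (f ⁻¹ᵁ V).ι) p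
    haveI : CompactSpace (f ⁻¹ᵁ V).toScheme :=
      QuasiCompact.compactSpace_of_compactSpace (f ∣_ V)
    haveI : QuasiSeparatedSpace (f ⁻¹ᵁ V).toScheme :=
      quasiSeparatedSpace_of_quasiSeparated (f ∣_ V)
    haveI : IsAffine (pullback π (f ⁻¹ᵁ V).ι) := by
      haveI : IsAffine (π ⁻¹ᵁ f ⁻¹ᵁ V).toScheme := hV.preimage (π ≫ f)
      exact .of_isIso (pullbackRestrictIsoRestrict π (f ⁻¹ᵁ V)).hom
    exact isAffine_of_perfection (isPerfection_pullback hX (f ⁻¹ᵁ V).ι)

end Groth.Agent.Perfn
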