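import Groth.Agent.Perfn.Frob

/-!
# Local structure of perfections
-/

set_option autoImplicit false
set_option linter.style.haveILetI false
set_option backward.isDefEq.respectTransparency false
universe u

namespace Groth.Agent.Perfn

open AlgebraicGeometry CategoryTheory CategoryTheory.Limits FrobSch

variable {p : ℕ} [hp : Fact p.Prime]

omit hp in
theorem natCast_eq_zero_Spec (A : Type u) [CommRing A] [IsCharP (Spec (CommRingCat.of A)) p] :
    (p : A) = 0 := by
  have h := congrArg (Scheme.ΓSpecIso (CommRingCat.of A)).hom.hom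
    (IsCharP.natCast_eq_zero (X := Spec (CommRingCat.of A)) (p := p))
  simpa using h

variable {XP X : Scheme.{u}} [IsCharP XP p] [IsCharP X p] {π : XP ⟶ X}

/-- Over an affine piece a perfection is the spectrum of the perfect closure. -/
theorem exists_chart (hπ : IsPerfection π p) {A : Type u} [CommRing A]
    (j : Spec (CommRingCat.of A) ⟶ X) [IsOpenImmersion j] :
    ∃ (B : Type u) (_ : CommRing B) (ψ : A →+* B) (i : Spec (CommRingCat.of B) ⟶ XP),
      Function.Bijective (fun x : B => x ^ p) ∧ (∀ s : B, ∃ n a, s ^ p ^ n = ψ a) ∧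
      (∀ a, ψ a = 0 → IsNilpotent a) ∧ IsPullback i (Spec.map (CommRingCat.ofHom ψ)) π j := by
  haveI : IsCharP (Spec (CommRingCat.of A)) p := IsCharP.of_hom j p
  have hA := natCast_eq_zero_Spec (p := p) A
  obtain ⟨B, _, ψ, hb, hrange, hker, hlift⟩ := exists_closure A p hA
  haveI : IsCharP (Spec (CommRingCat.of B)) p := IsCharP.of_hom (Spec.map (CommRingCat.ofHom ψ)) p
  haveI : IsCharP (pullback π j) p := IsCharP.of_hom (pullback.fst π j) p
  have hP : IsPerfect (pullback π j) p := isPerfect_of_isOpenImmersion (pullback.fst π j) hπ.1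
  haveI : _root_.IsReduced B := isReduced_of_bij hp.out.one_lt hb
  obtain ⟨g₀, hg₀⟩ := (hπ.2 _ (isPerfect_Spec B hb)).2 (Spec.map (CommRingCat.ofHom ψ) ≫ j)
  dsimp only at hg₀
  let a : Spec (CommRingCat.of B) ⟶ pullback π j :=
    pullback.lift g₀ (Spec.map (CommRingCat.ofHom ψ)) hg₀
  obtain ⟨h, hh⟩ := hlift Γ(pullback π j, ⊤)
    ((Scheme.ΓSpecIso (CommRingCat.of A)).inv ≫ (pullback.snd π j).appTop).hom
    (bijective_pow_of_isPerfect hP ⊤)
  let b : pullback π j ⟶ Spec (CommRingCat.of B) :=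
    (pullback π j).toSpecΓ ≫ Spec.map (CommRingCat.ofHom h)
  have hbψ : b ≫ Spec.map (CommRingCat.ofHom ψ) = pullback.snd π j := by
    simp only [b, Category.assoc, ← Spec.map_comp]
    rw [← CommRingCat.ofHom_comp, hh, CommRingCat.ofHom_hom, Spec.map_comp,
      ← Scheme.toSpecΓ_naturality_assoc]
    simp
  have hψ : FlatMor.IsUnivHomeo (Spec.map (CommRingCat.ofHom ψ)) := uh_of_pow ψ hA hrange hker
  obtain ⟨-, hu, -⟩ := (WeakNorm.isUnivHomeo_iff _).mp hψ
  have hab : a ≫ b = 𝟙 _ :=
    WeakNorm.hom_ext_of_universallyInjective (Spec.map (CommRingCat.ofHom ψ)) (by simp [a, hbψ])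
  have hba : b ≫ a = 𝟙 _ := by
    apply pullback.hom_ext
    · refine (hπ.2 _ hP).1 ?_
      simp only [a, Category.assoc, pullback.lift_fst, Category.id_comp, hg₀]
      rw [reassoc_of% hbψ, pullback.condition]
    · simp [a, hbψ]
  refine ⟨B, inferInstance, ψ, g₀, hb, hrange, hker, ?_⟩
  exact IsPullback.of_iso_pullback ⟨hg₀⟩ ⟨a, b, hab, hba⟩ (pullback.lift_fst _ _ _)
    (pullback.lift_snd _ _ _)

/-- A perfection is a universal homeomorphism. -/
theorem isUnivHomeo (hπ : IsPerfection π p) : FlatMor.IsUnivHomeo π := by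
  let 𝒰 := X.affineOpenCover
  have key : ∀ i, FlatMor.IsUnivHomeo (pullback.snd π (𝒰.openCover.f i)) := by
    intro i
    haveI : IsCharP (Spec (CommRingCat.of (𝒰.X i : Type u))) p := IsCharP.of_hom (𝒰.f i) p
    obtain ⟨B, _, ψ, j, -, hrange, hker, hpb⟩ := exists_chart hπ (A := (𝒰.X i : Type u)) (𝒰.f i)
    have : pullback.snd π (𝒰.f i) = hpb.isoPullback.inv ≫ Spec.map (CommRingCat.ofHom ψ) :=
      (hpb.isoPullback_inv_snd).symm
    show FlatMor.IsUnivHomeo (pullback.snd π (𝒰.f i))
    rw [this]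
    exact WeakNorm.isUnivHomeo_comp (WeakNorm.isUnivHomeo_of_isIso _)
      (uh_of_pow ψ (natCast_eq_zero_Spec (p := p) _) hrange hker)
  rw [WeakNorm.isUnivHomeo_iff]
  refine ⟨?_, ?_, ?_⟩
  · exact IsZariskiLocalAtTarget.of_openCover 𝒰.openCover
      fun i => ((WeakNorm.isUnivHomeo_iff _).mp (key i)).1
  · exact IsZariskiLocalAtTarget.of_openCover 𝒰.openCover
      fun i => ((WeakNorm.isUnivHomeo_iff _).mp (key i)).2.1
  · exact IsZariskiLocalAtTarget.of_openCover 𝒰.openCover
      fun i => ((WeakNorm.isUnivHomeo_iff _).mp (key i)).2.2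

/-- Morphisms from a reduced scheme to a perfection agree when they agree on the base. -/
theorem hom_ext (hπ : IsPerfection π p) {T : Scheme.{u}} [IsReduced T] {g g' : T ⟶ XP}
    (h : g ≫ π = g' ≫ π) : g = g' := by
  obtain ⟨hi, hu, -⟩ := (WeakNorm.isUnivHomeo_iff π).mp (isUnivHomeo hπ)
  exact WeakNorm.hom_ext_of_universallyInjective π h

end Groth.Agent.Perfn
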