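import Groth.Agent.Perfn.Mor
import Mathlib.AlgebraicGeometry.Morphisms.Flat
import Mathlib.RingTheory.Flat.EquationalCriterion

/-!
# Flat and closed morphisms through charts of perfections
-/

set_option autoImplicit false
set_option linter.style.haveILetI false
universe u

namespace Groth.Agent.Perfn

open AlgebraicGeometry CategoryTheory CategoryTheory.Limits FrobSch

variable {p : ℕ} [hp : Fact p.Prime]

/-- The `p^n`-th power map as a ring endomorphism. -/
def powN (R : Type u) [CommRing R] (hR : (p : R) = 0) : ℕ → R →+* R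
  | 0 => RingHom.id R
  | n + 1 => (powHom p R hR).comp (powN R hR n)

theorem powN_apply {R : Type u} [CommRing R] (hR : (p : R) = 0) (n : ℕ) (x : R) :
    powN (p := p) R hR n x = x ^ p ^ n := by
  induction n with
  | zero => simp [powN]
  | succ n ih => simp [powN, ih, pow_succ, pow_mul]

theorem sum_pow_pow {R : Type u} [CommRing R] (hR : (p : R) = 0) {ι : Type*} (s : Finset ι)
    (x : ι → R) (n : ℕ) : (∑ i ∈ s, x i) ^ p ^ n = ∑ i ∈ s, x i ^ p ^ n := by
  have := map_sum (powN (p := p) R hR n) x s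
  simp only [powN_apply] at this
  exact this

set_option maxHeartbeats 1000000 in
/-- A flat map induces a flat map on perfect closures. -/
theorem flat_closure {A C A' C' : Type u} [CommRing A] [CommRing C] [CommRing A'] [CommRing C']
    (φ : A →+* C) (ψA : A →+* A') (ψC : C →+* C') (h : A' →+* C')
    (hcomm : h.comp ψA = ψC.comp φ) (hA0 : (p : A) = 0)
    (hA : Function.Bijective fun x : A' => x ^ p) (hC : Function.Bijective fun x : C' => x ^ p)
    (hrA : ∀ s : A', ∃ n a, s ^ p ^ n = ψA a) (hrC : ∀ s : C', ∃ n a, s ^ p ^ n = ψC a)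
    (hkC : ∀ a, ψC a = 0 → IsNilpotent a) (hφ : φ.Flat) : h.Flat := by
  have hA'0 := natCast_eq_zero_of_hom ψA hA0
  have hC0 := natCast_eq_zero_of_hom φ hA0
  have hC'0 := natCast_eq_zero_of_hom h hA'0
  have hc : ∀ a, h (ψA a) = ψC (φ a) := RingHom.congr_fun hcomm
  letI := φ.toAlgebra
  haveI : Module.Flat A C := hφ
  letI := h.toAlgebra
  show Module.Flat A' C'
  refine Module.Flat.iff_forall_isTrivialRelation.mpr fun {l r x} hrel => ?_
  choose n a ha using fun i => hrA (r i)
  choose m c hc' using fun i => hrC (x i)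
  let N := ∑ i, n i + ∑ i, m i
  have hnN : ∀ i, n i ≤ N := fun i =>
    le_add_right (Finset.single_le_sum (fun j _ => Nat.zero_le (n j)) (Finset.mem_univ i))
  have hmN : ∀ i, m i ≤ N := fun i =>
    le_add_left (Finset.single_le_sum (fun j _ => Nat.zero_le (m j)) (Finset.mem_univ i))
  let a' : Fin l → A := fun i => a i ^ p ^ (N - n i)
  let c' : Fin l → C := fun i => c i ^ p ^ (N - m i)
  have ha' : ∀ i, r i ^ p ^ N = ψA (a' i) := fun i => by
    rw [map_pow, ← ha, ← pow_mul, ← pow_add, Nat.add_sub_cancel' (hnN i)]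
  have hc'' : ∀ i, x i ^ p ^ N = ψC (c' i) := fun i => by
    rw [map_pow, ← hc', ← pow_mul, ← pow_add, Nat.add_sub_cancel' (hmN i)]
  have h0 : ψC (∑ i, φ (a' i) * c' i) = 0 := by
    have : (∑ i, h (r i) * x i) ^ p ^ N = 0 := by
      rw [show ∑ i, h (r i) * x i = 0 from hrel, zero_pow (pow_pos hp.out.pos N).ne']
    rw [sum_pow_pow hC'0] at this
    rw [map_sum, ← this]
    refine Finset.sum_congr rfl fun i _ => ?_
    rw [map_mul, ← hc, ← ha', ← hc'', map_pow, mul_pow]
  obtain ⟨k, hk⟩ := hkC _ h0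
  have hrel' : ∑ i, (a' i ^ p ^ k) • (c' i ^ p ^ k) = 0 := by
    have : (∑ i, φ (a' i) * c' i) ^ p ^ k = 0 :=
      pow_eq_zero_of_le (Nat.lt_pow_self hp.out.one_lt).le hk
    rw [sum_pow_pow hC0] at this
    rw [← this]
    refine Finset.sum_congr rfl fun i _ => ?_
    rw [Algebra.smul_def, mul_pow, RingHom.algebraMap_toAlgebra, map_pow]
  obtain ⟨q, b, y, hy, hb⟩ := Module.Flat.isTrivialRelation_of_sum_smul_eq_zero (R := A) (M := C) (f := fun i => a' i ^ p ^ k)
    (x := fun i => c' i ^ p ^ k) hrel'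
  choose R hR using fun i j => (pow_pow_bijective hA (N + k)).2 (ψA (b i j))
  choose Yr hYr using fun j => (pow_pow_bijective hC (N + k)).2 (ψC (y j))
  dsimp only at hR hYr hb
  refine ⟨q, R, Yr, fun i => ?_, fun j => ?_⟩
  · refine (pow_pow_bijective hC (N + k)).1 ?_
    show x i ^ p ^ (N + k) = (∑ j, R i j • Yr j) ^ p ^ (N + k)
    have hyi : c' i ^ p ^ k = ∑ j, b i j • y j := hy i
    rw [sum_pow_pow hC'0, pow_add, pow_mul, hc'', ← map_pow, hyi, map_sum]
    refine Finset.sum_congr rfl fun j _ => ?_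
    rw [← pow_add, Algebra.smul_def, Algebra.smul_def, mul_pow,
      RingHom.algebraMap_toAlgebra, RingHom.algebraMap_toAlgebra, map_mul, ← map_pow, hR i j,
      hYr j, hc]
  · refine (pow_pow_bijective hA (N + k)).1 ?_
    show (∑ i, r i * R i j) ^ p ^ (N + k) = 0 ^ p ^ (N + k)
    rw [zero_pow (pow_pos hp.out.pos _).ne', sum_pow_pow hA'0, ← map_zero ψA, ← hb j, map_sum]
    refine Finset.sum_congr rfl fun i _ => ?_
    rw [mul_pow, hR i j, map_mul, map_pow, ← ha', ← pow_mul, ← pow_add]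

variable {X Y XP YP : Scheme.{u}}
  [IsCharP X p] [IsCharP Y p] [IsCharP XP p] [IsCharP YP p]
  {πX : XP ⟶ X} {πY : YP ⟶ Y} (hX : IsPerfection πX p) (hY : IsPerfection πY p)
  (f : X ⟶ Y) (fP : XP ⟶ YP) (w : fP ≫ πY = πX ≫ f)

include hX hY w

/-- The perfection of a morphism in a pair of charts. -/
theorem exists_map_chart {A C : Type u} [CommRing A] [CommRing C] (φ : A →+* C)
    (j : Spec (CommRingCat.of A) ⟶ Y) [IsOpenImmersion j]
    (k : Spec (CommRingCat.of C) ⟶ X) [IsOpenImmersion k]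
    (hsq : k ≫ f = Spec.map (CommRingCat.ofHom φ) ≫ j) :
    ∃ (A' C' : Type u) (_ : CommRing A') (_ : CommRing C') (ψA : A →+* A') (ψC : C →+* C')
      (h : A' →+* C') (iA : Spec (CommRingCat.of A') ⟶ YP) (iC : Spec (CommRingCat.of C') ⟶ XP),
      h.comp ψA = ψC.comp φ ∧
      Function.Bijective (fun x : A' => x ^ p) ∧ Function.Bijective (fun x : C' => x ^ p) ∧
      (∀ s : A', ∃ n a, s ^ p ^ n = ψA a) ∧ (∀ s : C', ∃ n a, s ^ p ^ n = ψC a) ∧
      (∀ a, ψC a = 0 → IsNilpotent a) ∧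
      IsPullback iA (Spec.map (CommRingCat.ofHom ψA)) πY j ∧
      IsPullback iC (Spec.map (CommRingCat.ofHom ψC)) πX k ∧
      iC ≫ fP = Spec.map (CommRingCat.ofHom h) ≫ iA := by
  obtain ⟨A', _, ψA, iA, hA, hrA, hkA, hpbA⟩ := exists_chart hY j
  obtain ⟨C', _, ψC, iC, hC, hrC, hkC, hpbC⟩ := exists_chart hX k
  let t := hpbA.lift (iC ≫ fP) (Spec.map (CommRingCat.ofHom ψC) ≫ Spec.map (CommRingCat.ofHom φ))
    (by rw [Category.assoc, w, reassoc_of% hpbC.w, hsq, Category.assoc])
  obtain ⟨h, hh⟩ := Spec.map_surjective t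
  refine ⟨A', C', inferInstance, inferInstance, ψA, ψC, h.hom, iA, iC, ?_, hA, hC, hrA, hrC, hkC,
    hpbA, hpbC, ?_⟩
  · have h1 : Spec.map (CommRingCat.ofHom ψA ≫ h) =
        Spec.map (CommRingCat.ofHom φ ≫ CommRingCat.ofHom ψC) := by
      rw [Spec.map_comp, Spec.map_comp, hh]
      exact hpbA.lift_snd _ _ _
    exact congrArg CommRingCat.Hom.hom (Spec.map_injective h1)
  · rw [CommRingCat.ofHom_hom, hh]
    exact (hpbA.lift_fst _ _ _).symm

theorem flat_perfection [Flat f] : Flat fP := by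
  obtain ⟨_, -, _⟩ := props hX
  have key : ∀ z : XP, ∃ (T : Scheme.{u}) (i : T ⟶ XP), IsOpenImmersion i ∧ z ∈ Set.range i ∧
      Flat (i ≫ fP) := by
    intro z
    obtain ⟨V, hV, hyV, -⟩ := exists_isAffineOpen_mem_and_subset (X := Y) (x := f (πX z))
      (U := ⊤) trivial
    obtain ⟨U, hU, hxU, hUV⟩ := exists_isAffineOpen_mem_and_subset (X := X) (x := πX z)
      (U := f ⁻¹ᵁ V) hyV
    haveI : IsCharP (Spec Γ(Y, V)) p := IsCharP.of_hom hV.fromSpec p
    have hA0 : (p : Γ(Y, V)) = 0 := natCast_eq_zero_app Y p V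
    obtain ⟨A', C', _, _, ψA, ψC, h, iA, iC, hcomm, hA, hC, hrA, hrC, hkC, hpbA, hpbC, hfac⟩ :=
      exists_map_chart hX hY f fP w (f.appLE V U hUV).hom hV.fromSpec hU.fromSpec
        (IsAffineOpen.SpecMap_appLE_fromSpec f hV hU hUV).symm
    haveI : IsOpenImmersion iC :=
      MorphismProperty.of_isPullback (P := @IsOpenImmersion) hpbC.flip inferInstance
    haveI : IsOpenImmersion iA :=
      MorphismProperty.of_isPullback (P := @IsOpenImmersion) hpbA.flip inferInstance
    have hfl : h.Flat := flat_closure _ ψA ψC h hcomm hA0 hA hC hrA hrC hkC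
      (HasRingHomProperty.appLE @Flat f inferInstance ⟨V, hV⟩ ⟨U, hU⟩ hUV)
    haveI : Flat (Spec.map (CommRingCat.ofHom h)) :=
      (HasRingHomProperty.Spec_iff (P := @Flat)).mpr hfl
    refine ⟨_, iC, inferInstance, ?_, by rw [hfac]; infer_instance⟩
    have hx' : πX z ∈ Set.range hU.fromSpec := by rw [hU.range_fromSpec]; exact hxU
    obtain ⟨c, hc⟩ := hx'
    obtain ⟨e, he, -⟩ := Scheme.Pullback.exists_preimage_pullback z c hc.symm
    refine ⟨hpbC.isoPullback.inv e, ?_⟩
    rw [← Scheme.Hom.comp_apply, hpbC.isoPullback_inv_fst, he]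
  choose T i hi hz hfl using key
  let 𝒰 : XP.OpenCover :=
    { I₀ := XP
      X := T
      f := i
      mem₀ := by
        rw [Scheme.presieve₀_mem_precoverage_iff]
        exact ⟨fun x => ⟨x, hz x⟩, hi⟩ }
  haveI := HasRingHomProperty.instIsZariskiLocalAtSource (P := @Flat.{u})
  exact IsZariskiLocalAtSource.of_openCover (P := @Flat.{u}) 𝒰 hfl

theorem isClosedImmersion_perfection [IsClosedImmersion f] : IsClosedImmersion fP := by
  let 𝒰 := Y.affineOpenCover.openCover.pullback₁ πY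
  refine IsZariskiLocalAtTarget.of_openCover 𝒰 fun i => ?_
  let j : Spec (Y.affineOpenCover.X i) ⟶ Y := Y.affineOpenCover.f i
  haveI : IsOpenImmersion j := Y.affineOpenCover.openCover.map_prop i
  haveI : IsAffine (pullback f j) := IsClosedImmersion.isAffine_surjective_of_isAffine
    (pullback.snd f j) |>.1
  let k : Spec Γ(pullback f j, ⊤) ⟶ X := (pullback f j).isoSpec.inv ≫ pullback.fst f j
  obtain ⟨φ, hφ⟩ := Spec.map_surjective ((pullback f j).isoSpec.inv ≫ pullback.snd f j)
  haveI : IsClosedImmersion (Spec.map φ) := by rw [hφ]; infer_instance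
  have hsurj : Function.Surjective φ := fun c => by
    obtain ⟨a, ha⟩ := (IsClosedImmersion.isAffine_surjective_of_isAffine (Spec.map φ)).2
      ((Scheme.ΓSpecIso _).inv c)
    refine ⟨(Scheme.ΓSpecIso _).hom a, ?_⟩
    have h1 := congr($(Scheme.ΓSpecIso_inv_naturality φ).hom ((Scheme.ΓSpecIso _).hom a))
    simp only [CommRingCat.hom_comp, RingHom.comp_apply] at h1
    rw [Iso.hom_inv_id_apply] at h1
    exact (ConcreteCategory.bijective_of_isIso (Scheme.ΓSpecIso _).inv).1 (h1.trans ha)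
  obtain ⟨A', C', _, _, ψA, ψC, h, iA, iC, hcomm, hA, hC, hrA, hrC, -, hpbA, hpbC, hfac⟩ :=
    exists_map_chart hX hY f fP w φ.hom j k (by
      rw [CommRingCat.ofHom_hom, hφ, Category.assoc, pullback.condition, Category.assoc])
  have hh : Function.Surjective h := fun s => by
    obtain ⟨n, c, hc⟩ := hrC s
    obtain ⟨a, rfl⟩ := hsurj c
    obtain ⟨r, hr⟩ := (pow_pow_bijective hA n).2 (ψA a)
    refine ⟨r, (pow_pow_bijective hC n).1 ?_⟩
    show h r ^ p ^ n = s ^ p ^ n
    rw [← map_pow, show r ^ p ^ n = ψA a from hr, hc]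
    exact RingHom.congr_fun hcomm a
  haveI : IsClosedImmersion (Spec.map (CommRingCat.ofHom h)) := IsClosedImmersion.spec_of_surjective _ hh
  have hk : IsPullback k (Spec.map φ) f j := by
    rw [hφ]
    exact IsPullback.of_iso_pullback ⟨by simp [k, pullback.condition]⟩
      (pullback f j).isoSpec.symm rfl rfl
  have hleft : IsPullback iC (Spec.map (CommRingCat.ofHom h)) fP iA := by
    have hR : IsPullback iC (Spec.map (CommRingCat.ofHom ψC) ≫ Spec.map φ) (πX ≫ f) j :=
      hpbC.paste_vert hk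
    rw [← w] at hR
    refine IsPullback.of_bot ?_ hfac hpbA
    have e : Spec.map (CommRingCat.ofHom h) ≫ Spec.map (CommRingCat.ofHom ψA) =
        Spec.map (CommRingCat.ofHom ψC) ≫ Spec.map φ := by
      rw [← Spec.map_comp, ← Spec.map_comp, ← CommRingCat.ofHom_comp, hcomm]
      rfl
    rw [e]
    exact hR
  show IsClosedImmersion (pullback.snd fP (pullback.fst πY j))
  have hP : IsPullback iC (Spec.map (CommRingCat.ofHom h) ≫ hpbA.isoPullback.hom) fP
      (pullback.fst πY j) :=
    hleft.of_iso (Iso.refl _) (Iso.refl _) hpbA.isoPullback (Iso.refl _) (by simp) (by simp)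
      (by simp) (by simp)
  rw [← hP.isoPullback_inv_snd]
  infer_instance

end Groth.Agent.Perfn
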