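import Mathlib.AlgebraicGeometry.Morphisms.Integral
import Mathlib.AlgebraicGeometry.Morphisms.Separated
import Mathlib.AlgebraicGeometry.Morphisms.QuasiSeparated
import Mathlib.AlgebraicGeometry.Morphisms.Immersion

/-!
# Properties descending along surjective integral morphisms on the source
-/

set_option autoImplicit false
set_option linter.style.haveILetI false
universe u

set_option backward.isDefEq.respectTransparency false

namespace Groth.Agent.Perfn

open AlgebraicGeometry CategoryTheory CategoryTheory.Limits

variable {T X Y : Scheme.{u}} (h : T ⟶ X) (f : X ⟶ Y)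

theorem quasiCompact_of_comp_surjective [Surjective h] [QuasiCompact (h ≫ f)] : QuasiCompact f := by
  refine ⟨fun U hU hc => ?_⟩
  have h1 := (QuasiCompact.isCompact_preimage (f := h ≫ f) U hU hc).image h.continuous
  rwa [Scheme.Hom.comp_base, TopCat.coe_comp, Set.preimage_comp,
    Set.image_preimage_eq _ h.surjective] at h1

theorem diagonal_comp_map :
    pullback.diagonal (h ≫ f) ≫ pullback.map (h ≫ f) (h ≫ f) f f h h (𝟙 Y) (by simp) (by simp) =
      h ≫ pullback.diagonal f := by
  apply pullback.hom_ext <;> simp [pullback.map]

theorem quasiSeparated_of_comp_surjective [Surjective h] [IsIntegralHom h]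
    [QuasiSeparated (h ≫ f)] : QuasiSeparated f := by
  haveI : QuasiCompact (pullback.map (h ≫ f) (h ≫ f) f f h h (𝟙 Y) (by simp) (by simp)) :=
    MorphismProperty.pullbackMap (P := @QuasiCompact) (inferInstanceAs (QuasiCompact h))
      (inferInstanceAs (QuasiCompact h)) (by simp) (by simp)
  haveI : QuasiCompact (h ≫ pullback.diagonal f) := diagonal_comp_map h f ▸ inferInstance
  exact ⟨quasiCompact_of_comp_surjective h _⟩

theorem isSeparated_of_comp_surjective [Surjective h] [IsIntegralHom h]
    [IsSeparated (h ≫ f)] : IsSeparated f := by
  haveI : UniversallyClosed (pullback.map (h ≫ f) (h ≫ f) f f h h (𝟙 Y) (by simp) (by simp)) :=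
    MorphismProperty.pullbackMap (P := @UniversallyClosed) (inferInstanceAs (UniversallyClosed h))
      (inferInstanceAs (UniversallyClosed h)) (by simp) (by simp)
  haveI : UniversallyClosed (h ≫ pullback.diagonal f) := diagonal_comp_map h f ▸ inferInstance
  haveI : UniversallyClosed (pullback.diagonal f) := .of_comp_surjective h _
  exact ⟨IsClosedImmersion.of_isPreimmersion _ (pullback.diagonal f).isClosedMap.isClosed_range⟩

end Groth.Agent.Perfn
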