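import Groth.Agent.Perfn.Chart
import Groth.Agent.EtaleSections.Basic

/-!
# Perfection of immersions and of étale morphisms
-/

set_option autoImplicit false
set_option linter.style.haveILetI false
set_option backward.isDefEq.respectTransparency false
universe u

namespace Groth.Agent.Perfn

open AlgebraicGeometry CategoryTheory CategoryTheory.Limits FrobSch

variable {p : ℕ} [hp : Fact p.Prime]

theorem isPerfection_pullback {XP X U : Scheme.{u}} [IsCharP XP p] {π : XP ⟶ X}
    (hπ : IsPerfection π p) (j : U ⟶ X) [IsOpenImmersion j] [IsCharP (pullback π j) p] :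
    IsPerfection (pullback.snd π j) p := by
  refine ⟨isPerfect_of_isOpenImmersion (pullback.fst π j) hπ.1, fun Y _ hY => ⟨?_, ?_⟩⟩
  · intro g g' (e : g ≫ pullback.snd π j = g' ≫ pullback.snd π j)
    refine pullback.hom_ext ((hπ.2 Y hY).1 ?_) e
    simp only [Category.assoc, pullback.condition, reassoc_of% e]
  · intro t
    obtain ⟨g, hg⟩ := (hπ.2 Y hY).2 (t ≫ j)
    exact ⟨pullback.lift g t hg, pullback.lift_snd _ _ _⟩

variable {X Y XP YP : Scheme.{u}}
  [IsCharP X p] [IsCharP Y p] [IsCharP XP p] [IsCharP YP p]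
  {πX : XP ⟶ X} {πY : YP ⟶ Y}

theorem isImmersion_perfection (hX : IsPerfection πX p) (hY : IsPerfection πY p)
    (f : X ⟶ Y) (fP : XP ⟶ YP) (w : fP ≫ πY = πX ≫ f) [IsImmersion f] : IsImmersion fP := by
  let U := f.coborderRange
  haveI : IsCharP U.toScheme p := IsCharP.of_hom U.ι p
  haveI : IsCharP (pullback πY U.ι) p := IsCharP.of_hom (pullback.fst πY U.ι) p
  have hc : f.liftCoborder ≫ U.ι = f := f.liftCoborder_ι
  let cP : XP ⟶ pullback πY U.ι :=
    pullback.lift fP (πX ≫ f.liftCoborder) (by rw [Category.assoc, hc, w])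
  haveI := isClosedImmersion_perfection hX (isPerfection_pullback hY U.ι) f.liftCoborder cP
    (pullback.lift_snd _ _ _)
  rw [← pullback.lift_fst (f := πY) (g := U.ι) fP (πX ≫ f.liftCoborder) (by rw [Category.assoc, hc, w])]
  show IsImmersion (cP ≫ pullback.fst πY U.ι)
  infer_instance

theorem frob_Spec (A : Type u) [CommRing A] (hA : (p : A) = 0)
    [IsCharP (Spec (CommRingCat.of A)) p] :
    frob (Spec (CommRingCat.of A)) p = Spec.map (CommRingCat.ofHom (powHom p A hA)) := by
  refine ext_of_isAffine ?_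
  refine CommRingCat.hom_ext ?_
  refine RingHom.ext fun x => ?_
  have h1 := congr($(Scheme.ΓSpecIso_inv_naturality (CommRingCat.ofHom (powHom p A hA))).hom
    ((Scheme.ΓSpecIso (CommRingCat.of A)).hom x))
  simp only [CommRingCat.hom_comp, RingHom.comp_apply, Iso.hom_inv_id_apply] at h1
  rw [frob_appTop]
  refine Eq.trans ?_ h1
  show x ^ p = (Scheme.ΓSpecIso (CommRingCat.of A)).inv.hom
    ((Scheme.ΓSpecIso (CommRingCat.of A)).hom.hom x ^ p)
  rw [map_pow]
  exact (congrArg (· ^ p) (Iso.hom_inv_id_apply _ x)).symm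

/-- The absolute Frobenius is a universal homeomorphism. -/
theorem isUnivHomeo_frob (X : Scheme.{u}) [IsCharP X p] : FlatMor.IsUnivHomeo (frob X p) := by
  let 𝒰 := X.affineOpenCover
  have key : ∀ i, FlatMor.IsUnivHomeo (pullback.snd (frob X p) (𝒰.openCover.f i)) := by
    intro i
    haveI : IsCharP (Spec (CommRingCat.of (𝒰.X i : Type u))) p := IsCharP.of_hom (𝒰.f i) p
    haveI : IsOpenImmersion (𝒰.f i) := 𝒰.openCover.map_prop i
    have hA : (p : (𝒰.X i : Type u)) = 0 := natCast_eq_zero_Spec (p := p) _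
    have hpb : IsPullback (frob (Spec (CommRingCat.of (𝒰.X i : Type u))) p) (𝒰.f i) (𝒰.f i)
        (frob X p) :=
      IsOpenImmersion.isPullback _ _ _ _ (frob_comp p (𝒰.f i)).symm
        (frob_preimage X p _)
    have : pullback.snd (frob X p) (𝒰.f i) =
        hpb.flip.isoPullback.inv ≫ frob (Spec (CommRingCat.of (𝒰.X i : Type u))) p :=
      (hpb.flip.isoPullback_inv_snd).symm
    show FlatMor.IsUnivHomeo (pullback.snd (frob X p) (𝒰.f i))
    rw [this]
    refine WeakNorm.isUnivHomeo_comp (WeakNorm.isUnivHomeo_of_isIso _) ?_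
    rw [frob_Spec _ hA]
    exact uh_of_pow _ hA (fun s => ⟨1, s, by simp⟩) fun a ha => ⟨p, ha⟩
  rw [WeakNorm.isUnivHomeo_iff]
  exact ⟨IsZariskiLocalAtTarget.of_openCover 𝒰.openCover
      fun i => ((WeakNorm.isUnivHomeo_iff _).mp (key i)).1,
    IsZariskiLocalAtTarget.of_openCover 𝒰.openCover
      fun i => ((WeakNorm.isUnivHomeo_iff _).mp (key i)).2.1,
    IsZariskiLocalAtTarget.of_openCover 𝒰.openCover
      fun i => ((WeakNorm.isUnivHomeo_iff _).mp (key i)).2.2⟩

/-- An étale scheme over a perfect one is perfect. -/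
theorem isPerfect_of_etale {T S : Scheme.{u}} [IsCharP T p] [IsCharP S p] (q : T ⟶ S) [Etale q]
    (hS : IsPerfect S p) : IsPerfect T p := by
  haveI : IsIso (frob S p) := hS
  let r := relFrob q p
  haveI : Etale (r ≫ pullback.snd q (frob S p)) := by rw [relFrob_snd]; infer_instance
  haveI : Etale r := Etale.of_comp r (pullback.snd q (frob S p))
  obtain ⟨_, _, _⟩ := (WeakNorm.isUnivHomeo_iff _).mp (isUnivHomeo_frob (p := p) T)
  haveI : UniversallyInjective (r ≫ pullback.fst q (frob S p)) := by
    rw [relFrob_fst]; infer_instance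
  haveI : UniversallyInjective r := WeakNorm.universallyInjective_of_comp r (pullback.fst q (frob S p))
  haveI : IsOpenImmersion r := EtaleSections.isOpenImmersion_of_etale_universallyInjective r
  haveI : Surjective r := by
    refine ⟨fun z => ⟨pullback.fst q (frob S p) z, (pullback.fst q (frob S p)).injective ?_⟩⟩
    rw [← Scheme.Hom.comp_apply, relFrob_fst, frob_apply]
  haveI : IsIso r := (isIso_iff_isOpenImmersion_and_surjective _).mpr ⟨inferInstance, inferInstance⟩
  show IsIso (frob T p)
  rw [← relFrob_fst (f := q) (p := p)]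
  infer_instance

theorem isPullback_of_etale (hX : IsPerfection πX p) (hY : IsPerfection πY p)
    (f : X ⟶ Y) (fP : XP ⟶ YP) (w : fP ≫ πY = πX ≫ f) [Etale f] : IsPullback fP πX πY f := by
  haveI : IsCharP (pullback πY f) p := IsCharP.of_hom (pullback.fst πY f) p
  exact isPullback_of_perfect hX hY f fP w
    ((isPerfect_iff _).mp (isPerfect_of_etale (pullback.fst πY f) hY.1))

end Groth.Agent.Perfn
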