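import Groth.Agent.Perfn.Ring
import Groth.Prelude.Def_Frob
import Groth.Prelude.Def_W4c1perfhdescPerf

/-!
# Perfect schemes
-/

set_option autoImplicit false
set_option linter.style.haveILetI false
set_option backward.isDefEq.respectTransparency false
universe u

namespace Groth.Agent.Perfn

open AlgebraicGeometry CategoryTheory CategoryTheory.Limits FrobSch

variable {X : Scheme.{u}} {p : ℕ} [hp : Fact p.Prime] [IsCharP X p]

theorem bijective_pow_of_isPerfect (h : IsPerfect X p) (U : X.Opens) :
    Function.Bijective fun s : Γ(X, U) => s ^ p := by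
  haveI : IsIso (frob X p) := h
  have : IsIso ((frob X p).app U) := inferInstance
  exact (ConcreteCategory.isIso_iff_bijective _).mp this

theorem isPerfect_iff (X : Scheme.{u}) [IsCharP X p] :
    IsPerfect X p ↔ PerfSch.IsPerfect p X := by
  constructor
  · exact fun h U => ⟨natCast_eq_zero_app X p U, bijective_pow_of_isPerfect h U⟩
  · intro h
    haveI : IsAffineHom (frob X p) := ⟨fun U hU => hU⟩
    refine HasAffineProperty.of_iSup_eq_top (P := MorphismProperty.isomorphisms Scheme)
      (fun U : X.affineOpens => U) (iSup_affineOpens_eq_top X) fun U => ⟨U.2, ?_⟩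
    rw [morphismRestrict_appTop]
    haveI : IsIso ((frob X p).app (U.1.ι ''ᵁ ⊤)) :=
      (ConcreteCategory.isIso_iff_bijective _).mpr (h _).2
    infer_instance

omit [IsCharP X p] in
theorem isReduced_of_perfSch (h : PerfSch.IsPerfect p X) : IsReduced X :=
  ⟨fun U => isReduced_of_bij hp.out.one_lt (h U).2⟩

theorem isReduced_of_isPerfect (h : IsPerfect X p) : IsReduced X :=
  isReduced_of_perfSch ((isPerfect_iff X).mp h)

omit hp [IsCharP X p] in
theorem isCharP_of_perfSch (h : PerfSch.IsPerfect p X) : IsCharP X p := ⟨(h ⊤).1⟩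

/-- Frobenius of an affine scheme. -/
theorem isPerfect_Spec (R : Type u) [CommRing R] (h : Function.Bijective fun x : R => x ^ p)
    [IsCharP (Spec (CommRingCat.of R)) p] : IsPerfect (Spec (CommRingCat.of R)) p := by
  have hb : Function.Bijective
      fun x : Γ(Spec (CommRingCat.of R), ⊤) => x ^ p := by
    let e := (Scheme.ΓSpecIso (CommRingCat.of R)).commRingCatIsoToRingEquiv
    have h1 : (fun x : Γ(Spec (CommRingCat.of R), ⊤) => x ^ p) =
        e.symm ∘ (fun x : R => x ^ p) ∘ e := by
      funext x
      show x ^ p = e.symm (e x ^ p)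
      rw [← map_pow e, RingEquiv.symm_apply_apply]
    rw [h1]
    exact e.symm.bijective.comp (h.comp e.bijective)
  haveI : IsIso (frob (Spec (CommRingCat.of R)) p).appTop :=
    (ConcreteCategory.isIso_iff_bijective _).mpr hb
  refine (HasAffineProperty.iff_of_isAffine (P := MorphismProperty.isomorphisms Scheme)).mpr
    ⟨inferInstance, inferInstance⟩

theorem isPerfect_of_isOpenImmersion {U : Scheme.{u}} [IsCharP U p] (j : U ⟶ X) [IsOpenImmersion j]
    (h : IsPerfect X p) : IsPerfect U p := by
  rw [isPerfect_iff] at h ⊢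
  intro V
  refine ⟨natCast_eq_zero_app U p V, ?_⟩
  let e := (j.appIso V).commRingCatIsoToRingEquiv
  have h1 : (fun x : Γ(U, V) => x ^ p) = e ∘ (fun x : Γ(X, j ''ᵁ V) => x ^ p) ∘ e.symm := by
    funext x
    show x ^ p = e (e.symm x ^ p)
    rw [map_pow e, RingEquiv.apply_symm_apply]
  rw [h1]
  exact e.bijective.comp ((h _).2.comp e.symm.bijective)

end Groth.Agent.Perfn
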