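import Groth.Agent.Perfn.Tower
import Groth.Agent.AbsApprox.OverLim
import Groth.Agent.S4599

/-!
# A compact perfect scheme has a finitely presented model
-/

set_option autoImplicit false
set_option linter.style.haveILetI false
set_option backward.isDefEq.respectTransparency false
universe u

open AlgebraicGeometry CategoryTheory CategoryTheory.Limits Opposite FrobSch

noncomputable section

namespace Groth.Agent.Perfn

variable {p : ℕ} [hp : Fact p.Prime]

/-- The spectrum of the prime field. -/
abbrev specFp (p : ℕ) : Scheme.{u} := Spec (CommRingCat.of (ULift.{u} (ZMod p)))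

theorem natCast_zero_fp : (p : ULift.{u} (ZMod p)) = 0 := ULift.down_injective (by simp)

instance isCharP_specFp : IsCharP (specFp.{u} p) p where
  natCast_eq_zero := by
    apply (Scheme.ΓSpecIso _).commRingCatIsoToRingEquiv.injective
    rw [map_natCast, map_zero]
    exact natCast_zero_fp

/-- A scheme of characteristic `p` lives over the prime field. -/
def toFp (X : Scheme.{u}) [hX : IsCharP X p] : X ⟶ specFp.{u} p :=
  X.toSpecΓ ≫ Spec.map (CommRingCat.ofHom
    ((ZMod.castHom (ringChar.dvd (R := Γ(X, ⊤)) hX.natCast_eq_zero) Γ(X, ⊤)).comp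
      (ULift.ringEquiv (R := ZMod p)).toRingHom))

theorem cancel_tower {A T : Scheme.{u}} [IsCharP A p] [IsCharP T p] [IsPerfect T p] {a b : ℕ} (h : a ≤ b)
    {x x' : T ⟶ A}
    (e : x ≫ (fseq (p := p) A).map (homOfLE h).op = x' ≫ (fseq (p := p) A).map (homOfLE h).op) : x = x' := by
  induction b, h using Nat.le_induction generalizing x x' with
  | base =>
    rw [show (homOfLE (le_refl a)).op = 𝟙 (op a) from rfl, CategoryTheory.Functor.map_id] at e
    exact (Category.comp_id x).symm.trans (e.trans (Category.comp_id x'))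
  | succ b h ih =>
    rw [show (homOfLE (Nat.le_succ_of_le h)).op = (homOfLE (Nat.le_succ b)).op ≫ (homOfLE h).op from rfl,
      CategoryTheory.Functor.map_comp,
      show (fseq (p := p) A).map (homOfLE (Nat.le_succ b)).op = frob A p from
        Functor.ofOpSequence_map_homOfLE_succ (X := fun _ => A) _ b] at e
    have e' : (x ≫ frob A p) = x' ≫ frob A p := ih (by
      exact (Category.assoc _ _ _).trans (e.trans (Category.assoc _ _ _).symm))
    rwa [← frob_comp, ← frob_comp, cancel_epi] at e'

theorem hom_fp_ext {T : Scheme.{u}} (a b : T ⟶ specFp.{u} p) : a = b := by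
  apply ext_of_isAffine
  have e : ∀ f : CommRingCat.of (ULift.{u} (ZMod p)) ⟶ Γ(T, ⊤), f =
      (Scheme.ΓSpecIso _).inv ≫ a.appTop := by
    intro f
    ext x
    obtain ⟨n, hn⟩ := ZMod.intCast_surjective x.down
    have : x = (n : ULift.{u} (ZMod p)) := ULift.down_injective (by rw [← hn]; simp)
    rw [this, map_intCast, map_intCast]
  have := e ((Scheme.ΓSpecIso _).inv ≫ b.appTop)
  exact (Iso.cancel_iso_inv_left _ _ _).mp this.symm

/-- The cone of perfections over an affine transition system is a limit. -/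
theorem exists_perfect_limit {J : Type u} [SmallCategory J] [IsCofiltered J] {D : J ⥤ Scheme.{u}}
    [∀ {i j} (a : i ⟶ j), IsAffineHom (D.map a)] {c : Cone D} (hc : IsLimit c) [∀ j, IsCharP (D.obj j) p]
    [IsCharP c.pt p] (hP : IsPerfect c.pt p) :
    ∃ (F : J ⥤ Scheme.{u}) (_ : ∀ j, IsCharP (F.obj j) p) (q : ∀ j, F.obj j ⟶ D.obj j)
      (_ : ∀ j, IsPerfection (q j) p) (cF : Cone F) (_ : IsLimit cF) (e : c.pt ≅ cF.pt),
      (∀ ⦃i j : J⦄ (a : i ⟶ j), IsAffineHom (F.map a)) ∧
        (∀ j, e.hom ≫ cF.π.app j ≫ q j = c.π.app j) := by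
  choose P hch q hq using fun j => exists_perfection (p := p) (D.obj j)
  haveI := hch
  have hqp : ∀ j, IsPerfect (P j) p := fun j => (hq j).1
  choose m hm using fun (i j : J) (a : i ⟶ j) => ((hq j).2 _ (hqp i)).2 (q i ≫ D.map a)
  dsimp only at hm
  let F : J ⥤ Scheme.{u} :=
    { obj := P
      map := fun {i j} a => m i j a
      map_id := fun i => ((hq i).2 _ (hqp i)).1 (by
        show m i i (𝟙 i) ≫ q i = 𝟙 _ ≫ q i
        rw [hm, D.map_id, Category.comp_id, Category.id_comp])
      map_comp := fun {i j k} a b => ((hq k).2 _ (hqp i)).1 (by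
        show m i k (a ≫ b) ≫ q k = (m i j a ≫ m j k b) ≫ q k
        rw [hm, D.map_comp, Category.assoc, hm j k b, reassoc_of% (hm i j a)]) }
  haveI : ∀ j, IsCharP (F.obj j) p := hch
  haveI hF : ∀ ⦃i j : J⦄ (a : i ⟶ j), IsAffineHom (F.map a) := fun i j a =>
    (isAffineHom_iff (hq i) (hq j) (D.map a) (F.map a) (hm i j a)).1 inferInstance
  haveI : HasLimit F := LimExist.hasLimit F
  let L := limit F
  haveI : ∀ j, IsIso (frob (F.obj j) p) := hqp
  obtain ⟨j₀⟩ := IsCofiltered.nonempty (C := J)
  haveI : IsCharP L p := IsCharP.of_hom (limit.π F j₀) p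
  let shift : L ⟶ L := limit.lift F
    { pt := L
      π :=
        { app := fun j => limit.π F j ≫ inv (frob (F.obj j) p)
          naturality := fun i j a => by
            refine (Category.id_comp _).trans ?_
            rw [← limit.w F a, Category.assoc, Category.assoc]
            congr 1
            rw [IsIso.eq_inv_comp, ← Category.assoc, IsIso.comp_inv_eq, frob_comp] } }
  have hshift : ∀ j, shift ≫ limit.π F j = limit.π F j ≫ inv (frob (F.obj j) p) := fun j => limit.lift_π _ j
  have hLP : IsPerfect L p := by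
    refine ⟨shift, limit.hom_ext fun j => ?_, limit.hom_ext fun j => ?_⟩
    · rw [Category.assoc, hshift, ← Category.assoc, frob_comp, Category.assoc, IsIso.hom_inv_id,
        Category.comp_id, Category.id_comp]
    · rw [Category.assoc, frob_comp, ← Category.assoc, hshift, Category.assoc, IsIso.inv_hom_id,
        Category.comp_id, Category.id_comp]
  let d : L ⟶ c.pt := hc.lift
    { pt := L
      π :=
        { app := fun j => limit.π F j ≫ q j
          naturality := fun i j a => by
            refine (Category.id_comp _).trans ?_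
            rw [← limit.w F a, Category.assoc, Category.assoc]
            exact congrArg (limit.π F i ≫ ·) (hm i j a) } }
  have hd : ∀ j, d ≫ c.π.app j = limit.π F j ≫ q j := fun j => hc.fac _ j
  choose u hu using fun j => ((hq j).2 c.pt hP).2 (c.π.app j)
  dsimp only at hu
  let v : c.pt ⟶ L := limit.lift F
    { pt := c.pt
      π :=
        { app := u
          naturality := fun i j a => by
            refine (Category.id_comp _).trans (((hq j).2 c.pt hP).1 ?_)
            show u j ≫ q j = (u i ≫ F.map a) ≫ q j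
            rw [hu, Category.assoc]
            exact (c.w a).symm.trans (by rw [← hu i, Category.assoc]; exact congrArg (u i ≫ ·) (hm i j a).symm) } }
  have hv : ∀ j, v ≫ limit.π F j = u j := fun j => limit.lift_π _ j
  refine ⟨F, hch, q, hq, limit.cone F, limit.isLimit F, ⟨v, d, hc.hom_ext fun j => ?_,
    limit.hom_ext fun j => ?_⟩, hF, fun j => ?_⟩
  · rw [Category.assoc, hd, ← Category.assoc, hv, hu, Category.id_comp]
  · refine ((hq j).2 L hLP).1 ?_
    show ((d ≫ v) ≫ limit.π F j) ≫ q j = (𝟙 L ≫ limit.π F j) ≫ q j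
    rw [Category.assoc d, hv, Category.assoc, hu, hd, Category.id_comp]
  · show v ≫ limit.π F j ≫ q j = _
    rw [← Category.assoc, hv, hu]

/-- A compact perfect scheme is the perfection of a finitely presented scheme over the prime field. -/
theorem exists_model (X : Scheme.{u}) [IsCharP X p] [CompactSpace X] [QuasiSeparatedSpace X] [IsPerfect X p]
    (hc : ∀ (J : Type u) [SmallCategory J] [IsCofiltered J] (F : J ⥤ Scheme.{u})
      [∀ j, IsCharP (F.obj j) p] (c : Cone F) [IsCharP c.pt p], IsLimit c →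
      (∀ ⦃i j : J⦄ (a : i ⟶ j), IsAffineHom (F.map a)) →
      (∀ j, IsPerfect (F.obj j) p ∧ CompactSpace (F.obj j) ∧ QuasiSeparatedSpace (F.obj j)) →
      IsPerfect c.pt p → CompactSpace c.pt → QuasiSeparatedSpace c.pt →
      ∀ g : c.pt ⟶ X, ∃ (j : J) (gj : F.obj j ⟶ X), c.π.app j ≫ gj = g) :
    ∃ (X0 : Scheme.{u}) (s : X0 ⟶ specFp.{u} p) (_ : LocallyOfFinitePresentation s)
      (_ : CompactSpace X0) (_ : QuasiSeparatedSpace X0) (π : X ⟶ X0), IsPerfection π p := by
  haveI : QuasiSeparatedSpace (specFp.{u} p) := inferInstance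
  obtain ⟨K, _, _, _, D₀, cO, hcO, eO, hD, hA, -⟩ := AbsApprox.exists_limit_over (toFp (p := p) X)
  let J := Kᵒᵖ
  let D : J ⥤ Scheme.{u} := D₀ ⋙ Over.forget _
  let c₁ : Cone D := (Over.forget _).mapCone cO
  have hc₁ : IsLimit c₁ := isLimitOfPreserves (Over.forget _) hcO
  let eX : X ≅ c₁.pt := ((Over.forget _).mapIso eO).symm
  let c : Cone D := c₁.extend eX.hom
  have hcl : IsLimit c := hc₁.extendIso eX.hom
  haveI : ∀ {i j} (a : i ⟶ j), IsAffineHom (D.map a) := fun {i j} a => hA i j a
  haveI hchD : ∀ j, IsCharP (D.obj j) p := fun j => IsCharP.of_hom (D₀.obj j).hom p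
  haveI hcpt : IsCharP c.pt p := show IsCharP X p from inferInstance
  obtain ⟨F, hchF, q, hq, cF, hcF, e, hFa, he⟩ := exists_perfect_limit hcl
    (show IsPerfect X p from inferInstance)
  haveI := hchF
  have hqP : ∀ j, IsPerfect (F.obj j) p ∧ CompactSpace (F.obj j) ∧ QuasiSeparatedSpace (F.obj j) := fun j => by
    haveI : LocallyOfFinitePresentation (D₀.obj j).hom := (hD j).1
    haveI : CompactSpace (D.obj j) := (hD j).2.2.2.1
    haveI : QuasiSeparatedSpace (D.obj j) := (hD j).2.2.2.2
    obtain ⟨_, -, _⟩ := props (hq j)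
    refine ⟨(hq j).1, QuasiCompact.compactSpace_of_compactSpace (q j), ?_⟩
    exact quasiSeparatedSpace_of_quasiSeparated (q j)
  let cF' : Cone F := cF.extend e.hom
  haveI : IsCharP cF'.pt p := show IsCharP X p from inferInstance
  have hid : ∃ (j : J) (g : F.obj j ⟶ X), cF'.π.app j ≫ g = 𝟙 X :=
    hc J F cF' (hcF.extendIso e.hom) hFa hqP (show IsPerfect X p from inferInstance)
      (show CompactSpace X from inferInstance) (show QuasiSeparatedSpace X from inferInstance) (𝟙 X)
  obtain ⟨j, g, hg⟩ := hid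
  let Y := F.obj j
  let A := D.obj j
  haveI hYP : IsPerfect Y p := (hq j).1
  haveI hAc : CompactSpace A := (hD j).2.2.2.1
  haveI hAq : QuasiSeparatedSpace A := (hD j).2.2.2.2
  let sA : A ⟶ specFp.{u} p := (D₀.obj j).hom
  haveI : LocallyOfFinitePresentation sA := (hD j).1
  let a : X ⟶ Y := cF'.π.app j
  have hag : a ≫ g = 𝟙 X := hg
  obtain ⟨ct, hct, et, het⟩ := exists_isLimit (hq j)
  haveI : ∀ i, CompactSpace ((tower p A).obj i) := fun _ => hAc
  haveI : ∀ i, QuasiSeparatedSpace ((tower p A).obj i) := fun _ => hAq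
  let t : tower p A ⟶ (Functor.const _).obj (specFp.{u} p) :=
    { app := fun _ => toFp (p := p) A
      naturality := fun _ _ _ => hom_fp_ext _ _ }
  obtain ⟨i, e₀, he₀, -⟩ := Scheme.exists_π_app_comp_eq_of_locallyOfFinitePresentation (tower p A) t sA ct hct
    (et.inv ≫ g ≫ a ≫ q j) (NatTrans.ext (funext fun _ => hom_fp_ext _ _))
  let i₀ : (ULift.{u} ℕ)ᵒᵖ := stg 0
  let le : i ⟶ i₀ := (homOfLE (show (⟨0⟩ : ULift.{u} ℕ) ≤ i.unop from Nat.zero_le _)).op
  let Φ : A ⟶ A := (tower p A).map le
  let r : Y ⟶ A := et.hom ≫ ct.π.app i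
  have hr0 : r ≫ Φ = q j := by
    show (et.hom ≫ ct.π.app i) ≫ (tower p A).map le = q j
    rw [Category.assoc, ct.w le, het]
  have hre : r ≫ e₀ = g ≫ a ≫ q j := by
    show (et.hom ≫ ct.π.app i) ≫ e₀ = _
    rw [Category.assoc, he₀, Iso.hom_inv_id_assoc]
  let e₁ : A ⟶ A := e₀
  let X0 := equalizer e₁ Φ
  let ι : X0 ⟶ A := equalizer.ι e₁ Φ
  let π : X ⟶ X0 := equalizer.lift (a ≫ r) (by
    rw [Category.assoc, Category.assoc]
    show a ≫ r ≫ e₀ = a ≫ r ≫ Φ
    rw [hr0]
    rw [hre, reassoc_of% hag])
  haveI hιlfp : LocallyOfFinitePresentation ι ∧ QuasiCompact ι ∧ QuasiSeparated ι := by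
    haveI : QuasiSeparatedSpace A := hAq
    haveI : QuasiSeparated sA := QuasiSeparated.of_comp sA (terminal.from _)
    let A' : Over (specFp.{u} p) := Over.mk sA
    have hpb : IsPullback ι (ι ≫ e₁) (pullback.lift e₁ Φ (hom_fp_ext _ _)) (pullback.diagonal sA) := by
      have w : ι ≫ pullback.lift e₁ Φ (hom_fp_ext _ _) = (ι ≫ e₁) ≫ pullback.diagonal sA := by
        apply pullback.hom_ext
        · simp
        · simp only [Category.assoc, pullback.lift_snd, pullback.diagonal_snd, Category.comp_id]
          exact (equalizer.condition e₁ Φ).symm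
      refine ⟨⟨w⟩, ⟨PullbackCone.IsLimit.mk w (fun s => equalizer.lift s.fst ?_) (fun s => equalizer.lift_ι _ _)
        (fun s => ?_) (fun s m hm _ => ?_)⟩⟩
      · have h1 := congrArg (· ≫ pullback.fst sA sA) s.condition
        have h2 := congrArg (· ≫ pullback.snd sA sA) s.condition
        simp only [Category.assoc, pullback.lift_fst, pullback.lift_snd, pullback.diagonal_fst,
          pullback.diagonal_snd, Category.comp_id] at h1 h2
        rw [h1, h2]
      · have h1 := congrArg (· ≫ pullback.fst sA sA) s.condition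
        simp only [Category.assoc, pullback.lift_fst, pullback.diagonal_fst, Category.comp_id] at h1
        refine Eq.trans ?_ h1
        exact (Category.assoc _ _ _).symm.trans (congrArg (· ≫ e₁) (equalizer.lift_ι _ _))
      · apply equalizer.hom_ext
        rw [equalizer.lift_ι]
        exact hm
    haveI : LocallyOfFinitePresentation (pullback.diagonal sA) := S4599.result sA
    haveI : QuasiSeparated (pullback.diagonal sA) := inferInstance
    exact ⟨MorphismProperty.of_isPullback hpb.flip inferInstance,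
      MorphismProperty.of_isPullback hpb.flip inferInstance,
      MorphismProperty.of_isPullback hpb.flip inferInstance⟩
  obtain ⟨_, _, _⟩ := hιlfp
  refine ⟨X0, ι ≫ sA, inferInstance, QuasiCompact.compactSpace_of_compactSpace ι,
    quasiSeparatedSpace_of_quasiSeparated ι, π, ‹IsPerfect X p›, fun T _ hT => ⟨fun u u' huu => ?_, fun w => ?_⟩⟩
  · have h1 : (u ≫ a) ≫ q j = (u' ≫ a) ≫ q j := by
      have := congrArg (fun z => z ≫ ι ≫ Φ) huu
      simpa [π, ι, hr0] using this
    have h2 := congrArg (· ≫ g) (((hq j).2 T hT).1 h1)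
    simpa [hag] using h2
  · haveI : IsPerfect T p := hT
    have hYq := hq j
    let wA : T ⟶ A := w ≫ ι
    obtain ⟨h, hh⟩ : ∃ h : T ⟶ Y, h ≫ r = wA := by
      obtain ⟨k, hk⟩ := (hYq.2 T hT).2 (wA ≫ Φ)
      dsimp only at hk
      refine ⟨k, cancel_tower (p := p) (Nat.zero_le i.unop.down) ?_⟩
      exact (Category.assoc _ _ _).trans ((congrArg (k ≫ ·) hr0).trans hk)
    refine ⟨h ≫ g, equalizer.hom_ext ?_⟩
    have hfix : h ≫ g ≫ a = h := by
      refine (hYq.2 T hT).1 ?_
      show (h ≫ g ≫ a) ≫ q j = h ≫ q j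
      rw [Category.assoc, Category.assoc, ← hre, ← Category.assoc, hh, ← hr0, ← Category.assoc, hh]
      show (w ≫ ι) ≫ e₁ = (w ≫ ι) ≫ Φ
      rw [Category.assoc, Category.assoc, equalizer.condition]
    show ((h ≫ g) ≫ π) ≫ equalizer.ι e₁ Φ = w ≫ ι
    rw [Category.assoc, equalizer.lift_ι, Category.assoc, ← Category.assoc g, ← Category.assoc h,
      hfix, hh]

end Groth.Agent.Perfn
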