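import Groth.Agent.Perfn.Frob

/-!
# Universal homeomorphisms of perfect schemes
-/

set_option autoImplicit false
set_option linter.style.haveILetI false
set_option backward.isDefEq.respectTransparency false
universe u

namespace Groth.Agent.Perfn

open AlgebraicGeometry CategoryTheory CategoryTheory.Limits

variable {p : ℕ} [hp : Fact p.Prime]

/-- A universal homeomorphism of perfect schemes is an isomorphism. -/
theorem isIso_of_uh {X Y : Scheme.{u}} (f : X ⟶ Y) (hX : PerfSch.IsPerfect p X)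
    (hY : PerfSch.IsPerfect p Y) (hf : FlatMor.IsUnivHomeo f) : IsIso f := by
  haveI := ((WeakNorm.isUnivHomeo_iff f).mp hf).1
  haveI : IsReduced X := isReduced_of_perfSch hX
  refine HasAffineProperty.of_iSup_eq_top (P := MorphismProperty.isomorphisms Scheme)
    (fun U : Y.affineOpens => U) (iSup_affineOpens_eq_top Y) fun U => ⟨U.2.preimage f, ?_⟩
  haveI : IsAffine U.1.toScheme := U.2
  haveI : IsAffine (f ⁻¹ᵁ U.1).toScheme := U.2.preimage f
  have hr : FlatMor.IsUnivHomeo (f ∣_ U.1) :=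
    WeakNorm.isUnivHomeo_of_isPullback (isPullback_morphismRestrict f U.1) hf
  have hS : FlatMor.IsUnivHomeo (Spec.map (f ∣_ U.1).appTop) := by
    have h1 : Spec.map (f ∣_ U.1).appTop =
        (f ⁻¹ᵁ U.1).toScheme.isoSpec.inv ≫ f ∣_ U.1 ≫ U.1.toScheme.isoSpec.hom := by
      rw [Iso.eq_inv_comp, Scheme.isoSpec_hom_naturality]
    rw [h1]
    exact WeakNorm.isUnivHomeo_comp (WeakNorm.isUnivHomeo_of_isIso _)
      (WeakNorm.isUnivHomeo_comp hr (WeakNorm.isUnivHomeo_of_isIso _))
  rw [ConcreteCategory.isIso_iff_bijective]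
  exact bijective_of_uh (p := p) (A := Γ(U.1.toScheme, ⊤)) (B := Γ((f ⁻¹ᵁ U.1).toScheme, ⊤))
    (hY _).1 (hY _).2 (f ∣_ U.1).appTop.hom hS

end Groth.Agent.Perfn
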