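import Groth.Agent.Perfn.Basic
import Groth.Agent.Perfn.UH
import Groth.Agent.Perfn.Descend
import Groth.Agent.WeakNorm.AwnFactor
import Groth.Agent.WeakNorm.AwnNormal

/-!
# Properties of a morphism and of its perfection
-/

set_option autoImplicit false
set_option linter.style.haveILetI false
universe u

namespace Groth.Agent.Perfn

open AlgebraicGeometry CategoryTheory CategoryTheory.Limits FrobSch

variable {p : ℕ} [hp : Fact p.Prime] {X Y XP YP : Scheme.{u}}
  [IsCharP X p] [IsCharP Y p] [IsCharP XP p] [IsCharP YP p]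
  {πX : XP ⟶ X} {πY : YP ⟶ Y} (hX : IsPerfection πX p) (hY : IsPerfection πY p)
  (f : X ⟶ Y) (fP : XP ⟶ YP) (w : fP ≫ πY = πX ≫ f)

omit [IsCharP Y p] [IsCharP YP p] in
theorem props (hX : IsPerfection πX p) :
    IsIntegralHom πX ∧ UniversallyInjective πX ∧ Surjective πX :=
  (WeakNorm.isUnivHomeo_iff _).mp (isUnivHomeo hX)

include hX hY w

theorem quasiCompact_iff : QuasiCompact f ↔ QuasiCompact fP := by
  obtain ⟨_, -, _⟩ := props hX
  obtain ⟨_, -, -⟩ := props hY
  constructor
  · intro _
    haveI : QuasiCompact (fP ≫ πY) := w ▸ inferInstance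
    exact MorphismProperty.of_postcomp (W := @QuasiCompact) (W' := @QuasiSeparated) fP πY inferInstance inferInstance
  · intro _
    haveI : QuasiCompact (πX ≫ f) := w ▸ inferInstance
    exact quasiCompact_of_comp_surjective πX f

theorem quasiSeparated_iff : QuasiSeparated f ↔ QuasiSeparated fP := by
  obtain ⟨_, -, _⟩ := props hX
  obtain ⟨_, -, -⟩ := props hY
  constructor
  · intro _
    haveI : QuasiSeparated (fP ≫ πY) := w ▸ inferInstance
    exact MorphismProperty.of_postcomp (W := @QuasiSeparated) (W' := ⊤) fP πY trivial inferInstance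
  · intro _
    haveI : QuasiSeparated (πX ≫ f) := w ▸ inferInstance
    exact quasiSeparated_of_comp_surjective πX f

theorem isSeparated_iff : IsSeparated f ↔ IsSeparated fP := by
  obtain ⟨_, -, _⟩ := props hX
  obtain ⟨_, -, -⟩ := props hY
  constructor
  · intro _
    haveI : IsSeparated (fP ≫ πY) := w ▸ inferInstance
    exact MorphismProperty.of_postcomp (W := @IsSeparated) (W' := ⊤) fP πY trivial inferInstance
  · intro _
    haveI : IsSeparated (πX ≫ f) := w ▸ inferInstance
    exact isSeparated_of_comp_surjective πX f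

theorem universallyClosed_iff : UniversallyClosed f ↔ UniversallyClosed fP := by
  obtain ⟨_, -, _⟩ := props hX
  obtain ⟨_, -, -⟩ := props hY
  constructor
  · intro _
    haveI : UniversallyClosed (fP ≫ πY) := w ▸ inferInstance
    exact .of_comp_of_isSeparated fP πY
  · intro _
    haveI : UniversallyClosed (πX ≫ f) := w ▸ inferInstance
    exact .of_comp_surjective πX f

theorem surjective_of_surjective [Surjective f] : Surjective fP := by
  obtain ⟨-, -, _⟩ := props hX
  obtain ⟨-, hu, -⟩ := props hY
  refine ⟨fun y => ?_⟩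
  haveI : Surjective (fP ≫ πY) := w ▸ inferInstance
  obtain ⟨x, hx⟩ := (fP ≫ πY).surjective (πY y)
  exact ⟨x, πY.injective ((Scheme.Hom.comp_apply _ _ _).symm.trans hx)⟩

theorem isUnivHomeo_iff : FlatMor.IsUnivHomeo f ↔ FlatMor.IsUnivHomeo fP := by
  have hπX := isUnivHomeo hX
  have hπY := isUnivHomeo hY
  obtain ⟨_, _, _⟩ := props hX
  obtain ⟨_, _, _⟩ := props hY
  constructor
  · intro hf
    obtain ⟨_, _, _⟩ := (WeakNorm.isUnivHomeo_iff _).mp hf
    have hc : FlatMor.IsUnivHomeo (fP ≫ πY) := w ▸ WeakNorm.isUnivHomeo_comp hπX hf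
    obtain ⟨_, _, _⟩ := (WeakNorm.isUnivHomeo_iff _).mp hc
    haveI : IsIntegralHom fP :=
      MorphismProperty.of_postcomp (W := @IsIntegralHom) (W' := @IsSeparated) fP πY inferInstance inferInstance
    haveI : UniversallyInjective fP := WeakNorm.universallyInjective_of_comp fP πY
    haveI : Surjective fP := surjective_of_surjective hX hY f fP w
    exact (WeakNorm.isUnivHomeo_iff _).mpr ⟨inferInstance, inferInstance, inferInstance⟩
  · intro hf
    obtain ⟨_, _, _⟩ := (WeakNorm.isUnivHomeo_iff _).mp hf
    haveI : IsSeparated f := (isSeparated_iff hX hY f fP w).mpr inferInstance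
    exact WeakNorm.isUnivHomeo_of_surjective_comp (h := πX)
      (w ▸ WeakNorm.isUnivHomeo_comp hf hπY)

/-- The perfection square is cartesian as soon as the fibre product is perfect. -/
theorem isPullback_of_perfect (hP : PerfSch.IsPerfect p (pullback πY f)) :
    IsPullback fP πX πY f := by
  have hπX := isUnivHomeo hX
  obtain ⟨_, _, _⟩ := props hX
  obtain ⟨_, _, _⟩ := props hY
  let g : XP ⟶ pullback πY f := pullback.lift fP πX w
  have e : g ≫ pullback.snd πY f = πX := pullback.lift_snd _ _ _
  haveI : IsIntegralHom (g ≫ pullback.snd πY f) := by rw [e]; infer_instance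
  haveI : IsIntegralHom g := MorphismProperty.of_postcomp (W := @IsIntegralHom) (W' := @IsSeparated) g
    (pullback.snd πY f) inferInstance inferInstance
  haveI : UniversallyInjective (g ≫ pullback.snd πY f) := by rw [e]; infer_instance
  haveI : UniversallyInjective g := WeakNorm.universallyInjective_of_comp g (pullback.snd πY f)
  haveI : UniversallyInjective (pullback.snd πY f) :=
    (universallyInjective_iff _).mpr <| MorphismProperty.IsStableUnderBaseChange.of_isPullback
      (IsPullback.of_hasPullback πY f) ((universallyInjective_iff πY).mp inferInstance)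
  haveI : Surjective g := by
    refine ⟨fun z => ?_⟩
    obtain ⟨x, hx⟩ := πX.surjective (pullback.snd πY f z)
    refine ⟨x, (pullback.snd πY f).injective ?_⟩
    rw [← Scheme.Hom.comp_apply, pullback.lift_snd, hx]
  have hg : FlatMor.IsUnivHomeo g :=
    (WeakNorm.isUnivHomeo_iff _).mpr ⟨inferInstance, inferInstance, inferInstance⟩
  haveI : IsIso g := isIso_of_uh g ((isPerfect_iff XP).mp hX.1) hP hg
  exact IsPullback.of_iso_pullback ⟨w⟩ (asIso g) (pullback.lift_fst _ _ _) (pullback.lift_snd _ _ _)

theorem isPullback_of_isOpenImmersion [IsOpenImmersion f] : IsPullback fP πX πY f := by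
  haveI : IsCharP (pullback πY f) p := IsCharP.of_hom (pullback.fst πY f) p
  exact isPullback_of_perfect hX hY f fP w
    ((isPerfect_iff _).mp (isPerfect_of_isOpenImmersion (pullback.fst πY f) hY.1))

theorem isOpenImmersion_perfection [IsOpenImmersion f] : IsOpenImmersion fP :=
  MorphismProperty.of_isPullback (isPullback_of_isOpenImmersion hX hY f fP w).flip inferInstance

end Groth.Agent.Perfn
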