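import Groth.Agent.WeakNorm.AwnPerfect
import Mathlib.RingTheory.Spectrum.Prime.Homeomorph

/-!
# Perfect closures of rings in which `p = 0`
-/

set_option autoImplicit false
set_option linter.style.haveILetI false
universe u

namespace Groth.Agent.Perfn

open AlgebraicGeometry CategoryTheory
open scoped TensorProduct

variable {A B : Type u} [CommRing A] [CommRing B] {p : ℕ}

theorem natCast_eq_zero_of_hom (ψ : A →+* B) (hp0 : (p : A) = 0) : (p : B) = 0 := by
  rw [← map_natCast ψ, hp0, map_zero]

theorem isReduced_of_bij (hp : 1 < p) (h : Function.Bijective fun x : A => x ^ p) :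
    _root_.IsReduced A :=
  (isReduced_iff_pow_one_lt p hp).mpr fun x hx =>
    h.1 (show x ^ p = 0 ^ p by rw [hx, zero_pow (by omega)])

theorem pow_pow_bijective (h : Function.Bijective fun x : A => x ^ p) :
    ∀ n : ℕ, Function.Bijective fun x : A => x ^ p ^ n
  | 0 => by
    simp only [pow_zero, pow_one]
    exact Function.bijective_id
  | n + 1 => by
    have : (fun x : A => x ^ p ^ (n + 1)) = (fun x : A => x ^ p) ∘ (fun x : A => x ^ p ^ n) :=
      funext fun x => by simp [pow_succ, pow_mul]
    rw [this]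
    exact h.comp (pow_pow_bijective h n)

variable [hp : Fact p.Prime]

theorem sub_pow_pow (hp0 : (p : A) = 0) (x y : A) (n : ℕ) :
    (x - y) ^ p ^ n = x ^ p ^ n - y ^ p ^ n := by
  rcases subsingleton_or_nontrivial A with hA | hA
  · exact Subsingleton.elim _ _
  · haveI : CharP A p := (CharP.charP_iff_prime_eq_zero hp.out).mpr hp0
    haveI : ExpChar A p := ExpChar.prime hp.out
    exact sub_pow_char_pow x y n

/-- A map with `p`-power dense image and locally nilpotent kernel is a universal homeomorphism. -/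
theorem uh_of_pow (ψ : A →+* B) (hp0 : (p : A) = 0)
    (hrange : ∀ s : B, ∃ n a, s ^ p ^ n = ψ a) (hker : ∀ a, ψ a = 0 → IsNilpotent a) :
    WeakNorm.UH ψ := by
  letI := ψ.toAlgebra
  have hint : Algebra.IsIntegral A B := ⟨fun s => by
    obtain ⟨n, a, h⟩ := hrange s
    exact IsIntegral.of_pow (pow_pos hp.out.pos n) (h ▸ isIntegral_algebraMap)⟩
  refine (WeakNorm.uh_iff (A := A) (B := B)).mpr ⟨hint, fun s => ?_, ?_⟩
  · obtain ⟨n, a, h⟩ := hrange s
    refine ⟨p ^ n, ?_⟩
    have hT : (p : B ⊗[A] B) = 0 := natCast_eq_zero_of_hom (algebraMap A (B ⊗[A] B)) hp0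
    rw [sub_pow_pow hT, Algebra.TensorProduct.tmul_pow, Algebra.TensorProduct.tmul_pow, one_pow, h,
      sub_eq_zero]
    show algebraMap A B a ⊗ₜ[A] (1 : B) = 1 ⊗ₜ[A] algebraMap A B a
    rw [← Algebra.TensorProduct.algebraMap_apply]
    exact (Algebra.TensorProduct.includeRight.commutes a).symm
  · refine (PrimeSpectrum.isHomeomorph_comap (algebraMap A B) (fun s => ?_)
      fun a ha => hker a ha).bijective.2
    obtain ⟨n, a, h⟩ := hrange s
    exact ⟨p ^ n, pow_pos hp.out.pos n, a, h.symm⟩

/-- A universal homeomorphism from a perfect ring to a reduced ring is bijective. -/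
theorem bijective_of_uh (hp0 : (p : A) = 0) (hA : Function.Bijective fun x : A => x ^ p)
    [_root_.IsReduced B] (ψ : A →+* B) (hψ : WeakNorm.UH ψ) : Function.Bijective ψ := by
  haveI : PerfectRing A p := ⟨hA⟩
  have hW := WeakNorm.isAWNRing_of_perfect (A := A) hp.out hp0
  have hid : WeakNorm.UH (RingHom.id A) := by
    show FlatMor.IsUnivHomeo _
    rw [CommRingCat.ofHom_id, Spec.map_id]
    exact WeakNorm.isUnivHomeo_of_isIso _
  obtain ⟨χ, hχ, -⟩ := (WeakNorm.isRingAWN_of_uh_of_isAWNRing hid hW).2 B ψ hψ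
  refine ⟨Function.LeftInverse.injective (g := χ) fun a => RingHom.congr_fun hχ a, ?_⟩
  have h2 : ψ.comp χ = RingHom.id B := hψ.hom_ext (by rw [RingHom.comp_assoc, hχ]; rfl)
  exact Function.RightInverse.surjective (g := χ) fun b => RingHom.congr_fun h2 b

/-- Existence of a perfect closure with its universal property. -/
theorem exists_closure (A : Type u) [CommRing A] (p : ℕ) [hp : Fact p.Prime] (hp0 : (p : A) = 0) :
    ∃ (B : Type u) (_ : CommRing B) (ψ : A →+* B), Function.Bijective (fun x : B => x ^ p) ∧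
      (∀ s : B, ∃ n a, s ^ p ^ n = ψ a) ∧ (∀ a, ψ a = 0 → IsNilpotent a) ∧
      ∀ (C : Type u) [CommRing C] (g : A →+* C),
        Function.Bijective (fun x : C => x ^ p) → ∃ h : B →+* C, h.comp ψ = g := by
  rcases subsingleton_or_nontrivial A with hA | hA
  · refine ⟨A, inferInstance, RingHom.id A,
      ⟨fun _ _ _ => Subsingleton.elim _ _, fun x => ⟨x, Subsingleton.elim _ _⟩⟩,
      fun s => ⟨0, s, by simp⟩, fun a _ => ⟨1, Subsingleton.elim _ _⟩, fun C _ g _ => ⟨g, rfl⟩⟩
  haveI : CharP A p := (CharP.charP_iff_prime_eq_zero hp.out).mpr hp0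
  refine ⟨PerfectClosure A p, inferInstance, PerfectClosure.of A p,
    PerfectRing.bijective_frobenius, ?_, ?_, ?_⟩
  · intro s
    obtain ⟨⟨n, a⟩, rfl⟩ := PerfectClosure.mk_surjective A p s
    refine ⟨n, a, ?_⟩
    rw [PerfectClosure.of_apply, PerfectClosure.mk_pow, PerfectClosure.mk_eq_iff]
    refine ⟨0, ?_⟩
    simp [iterate_frobenius]
  · intro x hx
    rw [PerfectClosure.of_apply, ← PerfectClosure.mk_zero_right A p 0,
      PerfectClosure.mk_eq_iff] at hx
    obtain ⟨z, hz⟩ := hx
    simp only [iterate_frobenius, zero_add, zero_pow (pow_pos hp.out.pos z).ne'] at hz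
    exact ⟨p ^ z, hz⟩
  · intro C _ g hC
    rcases subsingleton_or_nontrivial C with hCs | hCn
    · exact ⟨{ toFun := fun _ => 0, map_one' := Subsingleton.elim _ _,
               map_mul' := fun _ _ => Subsingleton.elim _ _, map_zero' := rfl,
               map_add' := fun _ _ => Subsingleton.elim _ _ },
        RingHom.ext fun _ => Subsingleton.elim _ _⟩
    haveI : CharP C p := (CharP.charP_iff_prime_eq_zero hp.out).mpr (natCast_eq_zero_of_hom g hp0)
    haveI : PerfectRing C p := ⟨hC⟩
    exact ⟨PerfectClosure.lift A p C g, (PerfectClosure.lift A p C).left_inv g⟩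

end Groth.Agent.Perfn
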