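import Groth.Agent.Perfn.Affine
import Groth.Agent.Perfn.Mor
import Groth.Agent.LimExist.Basic
import Mathlib.CategoryTheory.Functor.OfSequence

/-!
# The perfection as the limit of the tower of absolute Frobenii
-/

set_option autoImplicit false
set_option linter.style.haveILetI false
set_option backward.isDefEq.respectTransparency false
universe u

open AlgebraicGeometry CategoryTheory CategoryTheory.Limits Opposite FrobSch

noncomputable section

namespace Groth.Agent.Perfn

variable {p : ℕ} [hp : Fact p.Prime]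

/-- The tower of Frobenii. -/
def fseq (X : Scheme.{u}) [IsCharP X p] : ℕᵒᵖ ⥤ Scheme.{u} :=
  Functor.ofOpSequence (X := fun _ => X) (fun _ => frob X p)

/-- The tower of Frobenii, indexed by a small category of the right universe. -/
def tower (p : ℕ) [Fact p.Prime] (X : Scheme.{u}) [IsCharP X p] : (ULift.{u} ℕ)ᵒᵖ ⥤ Scheme.{u} :=
  (show Monotone (ULift.down : ULift.{u} ℕ → ℕ) from fun _ _ h => h).functor.op ⋙ fseq (p := p) X

section

variable (X : Scheme.{u}) [IsCharP X p]

theorem fseq_map_le {P : MorphismProperty Scheme.{u}} [P.ContainsIdentities] [P.IsStableUnderComposition]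
    (hF : P (frob X p)) {a b : ℕ} (h : a ≤ b) : P ((fseq (p := p) X).map (homOfLE h).op) := by
  induction b, h using Nat.le_induction with
  | base =>
    rw [show (homOfLE (le_refl a)).op = 𝟙 (op a) from rfl, CategoryTheory.Functor.map_id]
    exact P.id_mem _
  | succ b h ih =>
    rw [show (homOfLE (Nat.le_succ_of_le h)).op = (homOfLE (Nat.le_succ b)).op ≫ (homOfLE h).op from rfl,
      CategoryTheory.Functor.map_comp]
    refine P.comp_mem _ _ ?_ ih
    rw [show (fseq (p := p) X).map (homOfLE (Nat.le_succ b)).op = frob X p from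
      Functor.ofOpSequence_map_homOfLE_succ (X := fun _ => X) _ b]
    exact hF

theorem isAffineHom_frob : IsAffineHom (frob X p) := by
  obtain ⟨_, -, -⟩ := (WeakNorm.isUnivHomeo_iff _).mp (isUnivHomeo_frob (p := p) X)
  infer_instance

instance isAffineHom_tower {i j : (ULift.{u} ℕ)ᵒᵖ} (f : i ⟶ j) : IsAffineHom ((tower p X).map f) :=
  fseq_map_le X (P := @IsAffineHom) (isAffineHom_frob X) (show j.unop ≤ i.unop from leOfHom f.unop)

instance hasLimit_tower : HasLimit (tower p X) :=
  LimExist.hasLimit (tower p X)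

/-- The stage `n`. -/
abbrev stg (n : ℕ) : (ULift.{u} ℕ)ᵒᵖ := op ⟨n⟩

theorem tower_step (n : ℕ) :
    (tower p X).map (homOfLE (show (⟨n⟩ : ULift.{u} ℕ) ≤ ⟨n + 1⟩ from Nat.le_succ n)).op = frob X p :=
  Functor.ofOpSequence_map_homOfLE_succ (X := fun _ => X) _ n

/-- A compatible family gives a cone over the tower. -/
def coneOf {T : Scheme.{u}} (g : ℕ → (T ⟶ X)) (hg : ∀ n, g (n + 1) ≫ frob X p = g n) : Cone (tower p X) where
  pt := T
  π :=
    { app := fun i => g i.unop.down
      naturality := fun i j f => by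
        have key : ∀ {a b : ℕ} (h : a ≤ b), g b ≫ (fseq (p := p) X).map (homOfLE h).op = g a := by
          intro a b h
          induction b, h using Nat.le_induction with
          | base =>
            rw [show (homOfLE (le_refl a)).op = 𝟙 (op a) from rfl, CategoryTheory.Functor.map_id]
            exact Category.comp_id _
          | succ b h ih =>
            rw [show (homOfLE (Nat.le_succ_of_le h)).op = (homOfLE (Nat.le_succ b)).op ≫ (homOfLE h).op from rfl,
              CategoryTheory.Functor.map_comp,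
              show (fseq (p := p) X).map (homOfLE (Nat.le_succ b)).op = frob X p from
                Functor.ofOpSequence_map_homOfLE_succ (X := fun _ => X) _ b]
            rw [← Category.assoc]
            exact (congrArg (· ≫ _) (hg b)).trans ih
        exact (Category.id_comp _).trans (key (show j.unop ≤ i.unop from leOfHom f.unop)).symm }

/-- The projections of the limit. -/
def pr (n : ℕ) : limit (tower p X) ⟶ X := limit.π (tower p X) (stg n)

theorem pr_step (n : ℕ) : pr (p := p) X (n + 1) ≫ frob X p = pr (p := p) X n := by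
  rw [← tower_step X n]
  exact limit.w (tower p X) _

theorem pr_ext {T : Scheme.{u}} {h h' : T ⟶ limit (tower p X)}
    (e : ∀ n, h ≫ pr (p := p) X n = h' ≫ pr (p := p) X n) : h = h' :=
  limit.hom_ext fun i => e i.unop.down

/-- The lift into the limit. -/
def liftFam {T : Scheme.{u}} (g : ℕ → (T ⟶ X)) (hg : ∀ n, g (n + 1) ≫ frob X p = g n) :
    T ⟶ limit (tower p X) :=
  limit.lift _ (coneOf X g hg)

theorem liftFam_pr {T : Scheme.{u}} (g : ℕ → (T ⟶ X)) (hg : ∀ n, g (n + 1) ≫ frob X p = g n) (n : ℕ) :
    liftFam X g hg ≫ pr (p := p) X n = g n :=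
  limit.lift_π _ _

instance isCharP_limit : IsCharP (limit (tower p X)) p := IsCharP.of_hom (pr (p := p) X 0) p

instance isPerfect_limit : IsPerfect (limit (tower p X)) p := by
  let L := limit (tower p X)
  refine ⟨liftFam X (fun n => pr (p := p) X (n + 1)) (fun n => pr_step X (n + 1)), ?_, ?_⟩
  · refine pr_ext X fun n => ?_
    rw [Category.assoc, liftFam_pr, Category.id_comp, frob_comp, pr_step]
  · refine pr_ext X fun n => ?_
    rw [Category.assoc, frob_comp, ← Category.assoc, liftFam_pr, Category.id_comp, pr_step]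

/-- The iterated roots of a morphism from a perfect scheme. -/
def rt {T : Scheme.{u}} [IsCharP T p] [IsPerfect T p] (g : T ⟶ X) : ℕ → (T ⟶ X)
  | 0 => g
  | n + 1 => inv (frob T p) ≫ rt g n

theorem rt_step {T : Scheme.{u}} [IsCharP T p] [IsPerfect T p] (g : T ⟶ X) (n : ℕ) :
    rt (p := p) X g (n + 1) ≫ frob X p = rt (p := p) X g n := by
  rw [← frob_comp, rt, IsIso.hom_inv_id_assoc]

theorem eq_rt {T : Scheme.{u}} [IsCharP T p] [IsPerfect T p] (h : T ⟶ limit (tower p X)) (n : ℕ) :
    h ≫ pr (p := p) X n = rt (p := p) X (h ≫ pr (p := p) X 0) n := by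
  induction n with
  | zero => rfl
  | succ n ih =>
    rw [rt, ← ih, ← cancel_epi (frob T p), IsIso.hom_inv_id_assoc, frob_comp, Category.assoc, pr_step]

/-- The limit of the tower is a perfection. -/
theorem isPerfection_limit : IsPerfection (pr (p := p) X 0) p := by
  refine ⟨isPerfect_limit X, fun T _ hT => ⟨fun h h' e => ?_, fun g => ?_⟩⟩
  · refine pr_ext X fun n => ?_
    have : IsPerfect T p := hT
    rw [eq_rt X h, eq_rt X h']
    exact congrArg (fun q => rt (p := p) X q n) e
  · have : IsPerfect T p := hT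
    exact ⟨liftFam X (rt (p := p) X g) (rt_step X g), liftFam_pr X _ _ 0⟩

end

/-- Perfections exist. -/
theorem exists_perfection (X : Scheme.{u}) [IsCharP X p] :
    ∃ (XP : Scheme.{u}) (_ : IsCharP XP p) (π : XP ⟶ X), IsPerfection π p :=
  ⟨_, inferInstance, _, isPerfection_limit X⟩

/-- Every perfection is the limit of the tower. -/
theorem exists_isLimit {XP X : Scheme.{u}} [IsCharP XP p] [IsCharP X p] {π : XP ⟶ X}
    (hπ : IsPerfection π p) :
    ∃ (c : Cone (tower p X)) (_ : IsLimit c) (e : XP ≅ c.pt), e.hom ≫ c.π.app (stg 0) = π := by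
  have hP : IsPerfect XP p := hπ.1
  have hL := isPerfection_limit (p := p) X
  obtain ⟨a, ha⟩ := (hL.2 XP hπ.1).2 π
  obtain ⟨b, hb⟩ := (hπ.2 _ hL.1).2 (pr (p := p) X 0)
  dsimp only at ha hb
  refine ⟨limit.cone _, limit.isLimit _, ⟨a, b, (hπ.2 XP hπ.1).1 ?_, (hL.2 _ hL.1).1 ?_⟩, ha⟩
  · show (a ≫ b) ≫ π = 𝟙 _ ≫ π
    rw [Category.assoc, hb, ha, Category.id_comp]
  · show (b ≫ a) ≫ pr (p := p) X 0 = 𝟙 _ ≫ pr (p := p) X 0
    rw [Category.assoc, ha, hb, Category.id_comp]

end Groth.Agent.Perfn
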